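import Mathlib

/-!
# S3589 piece O8-ARITH: the eleven divisibilities `T ∣ lcm(components)` for `q` even
(the components are pairwise coprime).
-/

set_option autoImplicit false

namespace Cfsg.Agent.Helper5.O8

theorem o8_arith_cop {a b : ℕ} (hb : Odd b) (h2 : ∀ d, d ∣ a → d ∣ b → d ∣ 2) :
    Nat.Coprime a b := by
  have h := h2 _ (Nat.gcd_dvd_left a b) (Nat.gcd_dvd_right a b)
  rcases (Nat.dvd_prime Nat.prime_two).1 h with h1 | h1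
  · exact h1
  · exfalso
    have h3 : 2 ∣ b := h1 ▸ Nat.gcd_dvd_right a b
    exact (Nat.not_even_iff_odd.2 hb) (even_iff_two_dvd.2 h3)

theorem o8_arith_cop1 {a b c : ℕ} (hb : Odd b) (h : a = b * c + 2) : Nat.Coprime a b := by
  apply o8_arith_cop hb
  intro d hda hdb
  rw [h] at hda
  exact (Nat.dvd_add_right (Dvd.dvd.mul_right hdb c)).1 hda

theorem o8_arith_cop2 {a b c : ℕ} (hb : Odd b) (h : a + 2 = b * c) : Nat.Coprime a b := by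
  apply o8_arith_cop hb
  intro d hda hdb
  have h1 : d ∣ a + 2 := h ▸ Dvd.dvd.mul_right hdb c
  exact (Nat.dvd_add_right hda).1 h1

theorem o8_arith_two {a : ℕ} (h : Odd a) (t : ℕ) : a * 2 ^ t ∣ Nat.lcm a (2 ^ t) := by
  rw [(Nat.Coprime.pow_right t (Nat.coprime_two_right.2 h)).lcm_eq_mul]

-- PIECE O8-ARITH
theorem arith_targets (q : ℕ) (hq : 2 ≤ q) (heven : Even q) :
    (q ^ 4 - 1) ∣ Nat.lcm (q ^ 2 - 1) (q ^ 2 + 1) ∧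
    ((q ^ 3 - 1) * (q + 1)) ∣ Nat.lcm (q ^ 3 - 1) (q + 1) ∧
    ((q ^ 3 + 1) * (q - 1)) ∣ Nat.lcm (q ^ 3 + 1) (q - 1) ∧
    ((q ^ 3 - 1) * 2 ^ 1) ∣ Nat.lcm (q ^ 3 - 1) (2 ^ 1) ∧
    ((q ^ 3 + 1) * 2 ^ 1) ∣ Nat.lcm (q ^ 3 + 1) (2 ^ 1) ∧
    ((q ^ 2 + 1) * (q - 1) * 2 ^ 1) ∣ Nat.lcm (Nat.lcm (q ^ 2 + 1) (q - 1)) (2 ^ 1) ∧
    ((q ^ 2 + 1) * (q + 1) * 2 ^ 1) ∣ Nat.lcm (Nat.lcm (q ^ 2 + 1) (q + 1)) (2 ^ 1) ∧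
    ((q ^ 2 - 1) * 2 ^ 2) ∣ Nat.lcm (q ^ 2 - 1) (2 ^ 2) ∧
    ((q ^ 2 + 1) * 2 ^ 2) ∣ Nat.lcm (q ^ 2 + 1) (2 ^ 2) ∧
    ((q - 1) * 2 ^ 3) ∣ Nat.lcm (q - 1) (2 ^ 3) ∧
    ((q + 1) * 2 ^ 3) ∣ Nat.lcm (q + 1) (2 ^ 3) := by
  obtain ⟨k, hk⟩ := heven
  obtain ⟨j, rfl⟩ : ∃ j, q = 2 * j + 2 := ⟨k - 1, by omega⟩
  have e1 : 2 * j + 2 - 1 = 2 * j + 1 := by omega
  have e2 : (2 * j + 2) ^ 2 - 1 = 4 * j ^ 2 + 8 * j + 3 := Nat.sub_eq_of_eq_add (by ring)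
  have e3 : (2 * j + 2) ^ 3 - 1 = 8 * j ^ 3 + 24 * j ^ 2 + 24 * j + 7 :=
    Nat.sub_eq_of_eq_add (by ring)
  have e4 : (2 * j + 2) ^ 4 - 1 = 16 * j ^ 4 + 64 * j ^ 3 + 96 * j ^ 2 + 64 * j + 15 :=
    Nat.sub_eq_of_eq_add (by ring)
  rw [e1, e2, e3, e4]
  have o1 : Odd (2 * j + 1) := ⟨j, rfl⟩
  have o1' : Odd (2 * j + 2 + 1) := ⟨j + 1, by ring⟩
  have o2 : Odd (4 * j ^ 2 + 8 * j + 3) := ⟨2 * j ^ 2 + 4 * j + 1, by ring⟩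
  have o2' : Odd ((2 * j + 2) ^ 2 + 1) := ⟨2 * j ^ 2 + 4 * j + 2, by ring⟩
  have o3 : Odd (8 * j ^ 3 + 24 * j ^ 2 + 24 * j + 7) :=
    ⟨4 * j ^ 3 + 12 * j ^ 2 + 12 * j + 3, by ring⟩
  have o3' : Odd ((2 * j + 2) ^ 3 + 1) := ⟨4 * j ^ 3 + 12 * j ^ 2 + 12 * j + 4, by ring⟩
  refine ⟨?_, ?_, ?_, o8_arith_two o3 1, o8_arith_two o3' 1, ?_, ?_, o8_arith_two o2 2,
    o8_arith_two o2' 2, o8_arith_two o1 3, o8_arith_two o1' 3⟩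
  · have hc : Nat.Coprime (4 * j ^ 2 + 8 * j + 3) ((2 * j + 2) ^ 2 + 1) :=
      (o8_arith_cop1 (c := 1) o2 (by ring)).symm
    rw [hc.lcm_eq_mul]
    exact dvd_of_eq (by ring)
  · have hc : Nat.Coprime (8 * j ^ 3 + 24 * j ^ 2 + 24 * j + 7) (2 * j + 2 + 1) :=
      o8_arith_cop2 (c := 4 * j ^ 2 + 6 * j + 3) o1' (by ring)
    rw [hc.lcm_eq_mul]
  · have hc : Nat.Coprime ((2 * j + 2) ^ 3 + 1) (2 * j + 1) :=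
      o8_arith_cop1 (c := 4 * j ^ 2 + 10 * j + 7) o1 (by ring)
    rw [hc.lcm_eq_mul]
  · have hc : Nat.Coprime ((2 * j + 2) ^ 2 + 1) (2 * j + 1) :=
      o8_arith_cop1 (c := 2 * j + 3) o1 (by ring)
    rw [hc.lcm_eq_mul]
    exact o8_arith_two (o2'.mul o1) 1
  · have hc : Nat.Coprime ((2 * j + 2) ^ 2 + 1) (2 * j + 2 + 1) :=
      o8_arith_cop1 (c := 2 * j + 1) o1' (by ring)
    rw [hc.lcm_eq_mul]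
    exact o8_arith_two (o2'.mul o1') 1

end Cfsg.Agent.Helper5.O8
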