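import Mathlib

/-!
# S3589 piece O8-ARITHNS (helper15): `q^k + 1` does not divide `(q^k - 1)(q^(k-1) + 1)`, `q` even.
-/

set_option autoImplicit false

namespace Cfsg.Agent.Helper5.O8

-- PIECE O8-ARITHNS
theorem arith_ns (q k : ℕ) (hq : 2 ≤ q) (heven : Even q) (hk : 1 ≤ k) :
    ¬ (q ^ k + 1) ∣ (q ^ k - 1) * (q ^ (k - 1) + 1) := by
  intro hdvd
  obtain ⟨j, rfl⟩ : ∃ j, k = j + 1 := ⟨k - 1, by omega⟩
  rw [Nat.add_sub_cancel] at hdvd
  set B := q ^ j with hB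
  have hBpos : 1 ≤ B := Nat.one_le_pow _ _ (by omega)
  have hA : q ^ (j + 1) = q * B := by rw [pow_succ, mul_comm]
  rw [hA] at hdvd
  have hqB : 2 * B ≤ q * B := Nat.mul_le_mul_right B hq
  -- (A - 1)(B + 1) + 2 (B + 1) = (A + 1)(B + 1)
  have hid : (q * B - 1) * (B + 1) + 2 * (B + 1) = (q * B + 1) * (B + 1) := by
    have h1 : q * B - 1 + 2 = q * B + 1 := by omega
    rw [← add_mul, h1]
  have h2 : (q * B + 1) ∣ 2 * (B + 1) := by
    have h3 : (q * B + 1) ∣ (q * B - 1) * (B + 1) + 2 * (B + 1) := by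
      rw [hid]
      exact dvd_mul_right _ _
    exact (Nat.dvd_add_right hdvd).1 h3
  have hcop : Nat.Coprime (q * B + 1) 2 := by
    obtain ⟨r, hr⟩ := heven
    have : q * B + 1 = 2 * (r * B) + 1 := by rw [hr]; ring
    rw [this]
    exact Odd.coprime_two_right ⟨r * B, rfl⟩
  have h4 : (q * B + 1) ∣ (B + 1) := hcop.dvd_of_dvd_mul_left h2
  have h5 := Nat.le_of_dvd (by omega) h4
  omega

end Cfsg.Agent.Helper5.O8
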