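import Mathlib
import Cfsg.Agent.Lib.Helper5.O8Defs
import Cfsg.Agent.Lib.Helper10.EODefs
import Cfsg.Agent.Lib.Helper13.SympPalin

/-!
# S3589 piece O8-CHAR (helper22): basic facts on the characteristic polynomial of a symplectic
matrix: monic, of degree `2n`, nonzero constant term, fixed by `EO.star`.
-/

set_option autoImplicit false

namespace Cfsg.Agent.Helper5.O8

open Polynomial Module QuadraticMap
open Cfsg.Agent.Helper13 Cfsg.Agent.Helper10

universe u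

-- PIECE O8-CHAR
theorem charpoly_facts {F : Type u} [Field F] (n : ℕ) (g : Matrix.symplecticGroup (Fin n) F) :
    (g : Matrix (Fin n ⊕ Fin n) (Fin n ⊕ Fin n) F).charpoly.Monic ∧
    (g : Matrix (Fin n ⊕ Fin n) (Fin n ⊕ Fin n) F).charpoly.natDegree = 2 * n ∧
    (g : Matrix (Fin n ⊕ Fin n) (Fin n ⊕ Fin n) F).charpoly.coeff 0 ≠ 0 ∧
    EO.star (g : Matrix (Fin n ⊕ Fin n) (Fin n ⊕ Fin n) F).charpoly =
      (g : Matrix (Fin n ⊕ Fin n) (Fin n ⊕ Fin n) F).charpoly := by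
  have hmon : (g : Matrix (Fin n ⊕ Fin n) (Fin n ⊕ Fin n) F).charpoly.Monic :=
    Matrix.charpoly_monic _
  have hrev : (g : Matrix (Fin n ⊕ Fin n) (Fin n ⊕ Fin n) F).charpoly.reverse =
      (g : Matrix (Fin n ⊕ Fin n) (Fin n ⊕ Fin n) F).charpoly :=
    Cfsg.Agent.Helper13.SympSS.reverse_charpoly_of_mem _ g.2
  have hc0 : (g : Matrix (Fin n ⊕ Fin n) (Fin n ⊕ Fin n) F).charpoly.coeff 0 = 1 := by
    have h1 := Polynomial.coeff_zero_reverse (g : Matrix (Fin n ⊕ Fin n) (Fin n ⊕ Fin n) F).charpoly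
    rw [hrev, hmon.leadingCoeff] at h1
    exact h1
  refine ⟨hmon, ?_, ?_, ?_⟩
  · rw [Matrix.charpoly_natDegree_eq_dim]
    simp [two_mul]
  · rw [hc0]
    exact one_ne_zero
  · unfold EO.star
    rw [hc0, hrev]
    simp

end Cfsg.Agent.Helper5.O8
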