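import Mathlib
import Cfsg.Prelude.Def_Classical
import Cfsg.Agent.Lib.Helper5.O8Defs
import Cfsg.Agent.Lib.Helper13.OrthSp2
import Cfsg.Agent.Lib.Helper13.OrthTy5
import Cfsg.Agent.Lib.Helper23.OrthIso
import Cfsg.Agent.Lib.Helper27.Sp4I
import Cfsg.Agent.Lib.Helper2.OrthOrders

/-!
# S3589 farm-out (helper5), piece O8-EMB1: `GO_8^-(q) → Sp_8(q)` preserves element orders.
-/

set_option autoImplicit false

namespace Cfsg.Agent.Helper5.O8

open Polynomial Module QuadraticMap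
open Cfsg.Agent.Helper13 Cfsg.Agent.Helper13.OrthSS

universe u

/-- the statement for the matrix form `matQ (minusMat 3 a b)` -/
theorem o8_emb1_aux {F : Type u} [Field F] [Fintype F] [CharP F 2] (a b : F)
    (han : ∀ z₁ z₂ : F, z₁ ^ 2 + a * z₁ * z₂ + b * z₂ ^ 2 = 0 → z₁ = 0 ∧ z₂ = 0)
    (Q : ((Fin 3 ⊕ Fin 3) ⊕ Fin 2 → F) → F)
    (hQ : Q = ⇑(matQ (minusMat 3 a b)))
    (g : ↥(Cfsg.isometryGroup F Q)) :
    ∃ x : Matrix.symplecticGroup (Fin 4) F, orderOf x = orderOf g := by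
  subst hQ
  have h2 : (2 : F) = 0 := by
    have := CharP.cast_eq_zero F 2
    exact_mod_cast this
  obtain ⟨Q', hQ'nd, hpol, htype⟩ :=
    Cfsg.Agent.Helper13.OrthSp.exists_form_of_type (F := F) h2 4 (by norm_num) False
  have hh : ¬ IsHyp Q' := fun h => htype.1 h
  obtain ⟨e, he⟩ := equiv_of_type Q' (matQ (minusMat 3 a b)) hQ'nd
    (Cfsg.Agent.Helper2.Orth.nondeg_minus 3 a b han)
    (by
      rw [Module.finrank_fintype_fun_eq_card, Module.finrank_fintype_fun_eq_card,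
        Fintype.card_sum, Fintype.card_sum, Fintype.card_sum, Fintype.card_fin, Fintype.card_fin,
        Fintype.card_fin])
    (by
      rw [Module.finrank_fintype_fun_eq_card, Fintype.card_sum, Fintype.card_fin]
      exact ⟨4, rfl⟩)
    (iff_of_false hh (not_isHyp_minusMat 3 a b han))
  obtain ⟨φ⟩ := Cfsg.Agent.Helper23.Orth.nonempty_iso_of_equiv (⇑Q')
    (⇑(matQ (minusMat 3 a b))) e he
  set g' := φ.symm g with hg'
  have hg'sp : (g' : GL (Fin 4 ⊕ Fin 4) F) ∈ Cfsg.spGL 4 F :=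
    Cfsg.Agent.Helper13.OrthSp.isometryGroup_le_spGL (by norm_num) (⇑Q') hpol g'.2
  obtain ⟨x, hx⟩ := Cfsg.Agent.Helper28.SpSingMax.exists_of_mem_spGL _ hg'sp
  refine ⟨x, ?_⟩
  rw [← orderOf_injective (Cfsg.Agent.Helper28.SpSingMax.toGLHom 4 F)
    (Cfsg.Agent.Helper27.Sp4I.toGLHom_injective 4) x, hx, Subgroup.orderOf_coe, hg',
    MulEquiv.orderOf_eq]

-- PIECE O8-EMB1
theorem exists_sp_of_go {F : Type u} [Field F] [Fintype F] [CharP F 2] (a b : F)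
    (han : ∀ z₁ z₂ : F, z₁ ^ 2 + a * z₁ * z₂ + b * z₂ ^ 2 = 0 → z₁ = 0 ∧ z₂ = 0)
    (g : ↥(Cfsg.isometryGroup F (Cfsg.quadFormMinus 3 F a b))) :
    ∃ x : Matrix.symplecticGroup (Fin 4) F, orderOf x = orderOf g :=
  o8_emb1_aux a b han _ (Cfsg.Agent.Helper2.Orth.quadFormMinus_eq 3 a b) g

end Cfsg.Agent.Helper5.O8
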