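import Mathlib
import Cfsg.Prelude.Def_Classical
import Cfsg.Agent.Lib.Helper5.O8Defs
import Cfsg.Agent.Lib.Helper2.SpCenter

/-!
# S3589 piece O8-EMB2 (helper3): in characteristic 2 the centre of `Sp_{2m}(F)` is trivial, so
passing to `PSp_{2m}(F)` preserves element orders.
-/

set_option autoImplicit false

namespace Cfsg.Agent.Helper5.O8

open Polynomial Module QuadraticMap

universe u

theorem o8_emb2_center_eq_bot {F : Type u} [Field F] [CharP F 2] (m : ℕ) (hm : 1 ≤ m) :
    Subgroup.center (Matrix.symplecticGroup (Fin m) F) = ⊥ := by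
  have : Nonempty (Fin m) := ⟨⟨0, hm⟩⟩
  rw [eq_bot_iff]
  intro Z hZ
  rw [Cfsg.Agent.Helper2.Sp.mem_center_iff] at hZ
  rw [Subgroup.mem_bot]
  rcases hZ with rfl | rfl
  · rfl
  · exact Cfsg.Agent.Helper2.Sp.negOne_eq_one_iff.mpr (CharTwo.neg_eq (1 : F))

-- PIECE O8-EMB2
theorem orderOf_mk_psp {F : Type u} [Field F] [CharP F 2] (m : ℕ) (hm : 1 ≤ m)
    (x : Matrix.symplecticGroup (Fin m) F) :
    orderOf (QuotientGroup.mk x : Cfsg.PSp m F) = orderOf x := by
  have hinj : Function.Injective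
      (QuotientGroup.mk' (Subgroup.center (Matrix.symplecticGroup (Fin m) F))) := by
    rw [← MonoidHom.ker_eq_bot_iff, QuotientGroup.ker_mk']
    exact o8_emb2_center_eq_bot m hm
  exact orderOf_injective
    (QuotientGroup.mk' (Subgroup.center (Matrix.symplecticGroup (Fin m) F))) hinj x

end Cfsg.Agent.Helper5.O8
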