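import Mathlib
import Cfsg.Agent.Lib.Helper5.O8Defs
import Cfsg.Agent.Lib.Helper13.OrthTs5

/-!
# S3589 piece O8-GLHYP: a matrix of finite order gives an isometry of the same order of the
hyperbolic space `x ⬝ᵥ y` of twice the dimension
-/

set_option autoImplicit false
set_option linter.unusedSectionVars false

namespace Cfsg.Agent.Helper5.O8

open Polynomial Module QuadraticMap
open Cfsg.Agent.Helper13 Cfsg.Agent.Helper13.OrthSS

universe u

/-- the hyperbolic quadratic form `x ⬝ᵥ y` is hyperbolic -/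
theorem o8_glhyp_isHyp {F : Type u} [Field F] (k : ℕ) : IsHyp (OrthTs.hypQ (Fin k) F) := by
  refine ⟨LinearMap.range (LinearMap.inl F (Fin k → F) (Fin k → F)), ?_, ?_⟩
  · rintro _ ⟨x, rfl⟩
    rw [OrthTs.hypQ_apply]
    simp
  · rw [LinearMap.finrank_range_of_inj LinearMap.inl_injective, Module.finrank_prod]
    ring

/-- `hypMap G G' = 1` forces `G = 1` -/
theorem o8_glhyp_eq_one {F : Type u} [Field F] (k : ℕ) (G G' : Matrix (Fin k) (Fin k) F)
    (h : SpTi.hypMap G G' = 1) : G = 1 := by
  apply Matrix.toLin'.injective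
  apply LinearMap.ext
  intro x
  have h1 := LinearMap.congr_fun h (x, 0)
  rw [SpTi.hypMap_apply] at h1
  have h2 := congrArg Prod.fst h1
  simp only [Module.End.one_apply] at h2
  rw [Matrix.toLin'_apply, Matrix.toLin'_one]
  exact h2

-- PIECE O8-GLHYP
theorem qord_of_matrix {F : Type u} [Field F] (k : ℕ) (A : Matrix (Fin k) (Fin k) F)
    (hA : 0 < orderOf A) : QOrd F (2 * k) (orderOf A) True := by
  set n := orderOf A with hn
  have hAn : A ^ n = 1 := pow_orderOf_eq_one A
  have hinv : A ^ (n - 1) * A = 1 := by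
    rw [← pow_succ, Nat.sub_add_cancel hA, hAn]
  refine ⟨(Fin k → F) × (Fin k → F), inferInstance, inferInstance, inferInstance,
    SpTi.hypMap A (A ^ (n - 1)), OrthTs.hypQ (Fin k) F, ?_, hA, OrthTs.hypQ_nondeg, ?_, ?_, ?_, ?_⟩
  · -- the order
    rw [hn]
    apply orderOf_eq_orderOf_iff.2
    intro j
    rw [SpTi.hypMap_pow]
    constructor
    · intro h
      exact o8_glhyp_eq_one k _ _ h
    · intro h
      have h2 : (A ^ (n - 1)) ^ j = 1 := by
        rw [← pow_mul, mul_comm, pow_mul, h, one_pow]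
      rw [h, h2, SpTi.hypMap_one]
  · intro v
    exact OrthTs.hypMap_isom A (A ^ (n - 1)) hinv v
  · rw [Module.finrank_prod, Module.finrank_fin_fun]
    ring
  · exact even_two_mul k
  · exact iff_of_true (o8_glhyp_isHyp k) trivial

end Cfsg.Agent.Helper5.O8
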