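import Mathlib
import Cfsg.Agent.Lib.Helper5.O8Defs

/-!
# S3589 piece O8-IRRFIX: `pow_eq_one_of_fixed`
-/

set_option autoImplicit false

namespace Cfsg.Agent.Helper5.O8

open Polynomial Module

universe u

-- PIECE O8-IRRFIX
theorem pow_eq_one_of_fixed {F : Type u} [Field F] {V : Type u} [AddCommGroup V]
    [Module F V] [FiniteDimensional F V] (A : Module.End F V) (hirr : Irreducible A.charpoly)
    (j : ℕ) (v : V) (hv : v ≠ 0) (hfix : (A ^ j) v = v) : A ^ j = 1 := by
  have hg : aeval A (X ^ j - 1 : F[X]) = A ^ j - 1 := by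
    simp
  by_cases hdvd : A.charpoly ∣ (X ^ j - 1 : F[X])
  · obtain ⟨h, hh⟩ := hdvd
    have h0 : aeval A (X ^ j - 1 : F[X]) = 0 := by
      rw [hh, map_mul, LinearMap.aeval_self_charpoly, zero_mul]
    rw [hg] at h0
    exact sub_eq_zero.1 h0
  · exfalso
    have hcop : IsCoprime A.charpoly (X ^ j - 1 : F[X]) :=
      (Irreducible.coprime_iff_not_dvd hirr).2 hdvd
    obtain ⟨a, b, hab⟩ := hcop
    have h1 : aeval A (a * A.charpoly + b * (X ^ j - 1) : F[X]) = 1 := by
      rw [hab, map_one]
    rw [map_add, map_mul, map_mul, LinearMap.aeval_self_charpoly, mul_zero, zero_add, hg] at h1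
    have h2 := congrArg (fun T : Module.End F V => T v) h1
    simp only [Module.End.mul_apply, LinearMap.sub_apply, Module.End.one_apply, hfix, sub_self,
      map_zero] at h2
    exact hv h2.symm

end Cfsg.Agent.Helper5.O8
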