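import Mathlib
import Cfsg.Prelude.Def_Classical
import Cfsg.Agent.Lib.Helper5.O8Defs
import Cfsg.Agent.Lib.Helper13.SympPalin

/-!
# S3589, piece O8-MDUAL: a monic irreducible divisor of `X ^ (q ^ k + 1) - 1` is self-dual.
-/

set_option autoImplicit false

namespace Cfsg.Agent.Helper5.O8

open Polynomial Module QuadraticMap
open Cfsg.Agent.Helper13 Cfsg.Agent.Helper13.OrthSS Cfsg.Agent.Helper13.Dual

universe u

theorem o8_mdual_aeval_pow_card {F : Type u} [Field F] [Fintype F] {K : Type*} [CommRing K]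
    [Algebra F K] (f : F[X]) (x : K) :
    aeval (x ^ Fintype.card F) f = (aeval x f) ^ Fintype.card F := by
  rw [← expand_aeval, FiniteField.expand_card, map_pow]

theorem o8_mdual_aeval_pow_card_pow {F : Type u} [Field F] [Fintype F] {K : Type*} [CommRing K]
    [Algebra F K] (f : F[X]) (x : K) (j : ℕ) :
    aeval (x ^ (Fintype.card F ^ j)) f = (aeval x f) ^ (Fintype.card F ^ j) := by
  induction j with
  | zero => rw [pow_zero, pow_one, pow_one]
  | succ j ih => rw [pow_succ, pow_mul, o8_mdual_aeval_pow_card, ih, ← pow_mul]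

-- PIECE O8-MDUAL
theorem dualPoly_eq_self {F : Type u} [Field F] [Fintype F] (k : ℕ) (f : F[X]) (hmon : f.Monic)
    (hirr : Irreducible f) (hdvd : f ∣ X ^ (Fintype.card F ^ k + 1) - 1) :
    dualPoly (Fintype.card F ^ k + 1) f = f := by
  haveI : Fact (Irreducible f) := ⟨hirr⟩
  have hs3 : aeval ((AdjoinRoot.root f) ^ (Fintype.card F ^ k + 1 - 1)) f = 0 := by
    rw [Nat.add_sub_cancel, o8_mdual_aeval_pow_card_pow, AdjoinRoot.aeval_eq, AdjoinRoot.mk_self,
      zero_pow (pow_ne_zero _ Fintype.card_ne_zero)]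
  have hd : dualPoly (Fintype.card F ^ k + 1) f ∣ f := minpoly.dvd F _ hs3
  exact Polynomial.eq_of_monic_of_associated (dualPoly_monic hirr) hmon
    ((dualPoly_irreducible hirr).associated_of_dvd hirr hd)

end Cfsg.Agent.Helper5.O8
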