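import Mathlib

/-!
# S3589 piece O8-MNE: `root ^ (m - 1) ≠ root` in `AdjoinRoot f` when `f ∣ X ^ m - 1` has exact order `m ≥ 3`
-/

set_option autoImplicit false

namespace Cfsg.Agent.Helper5.O8

open Polynomial

universe u

theorem o8_mne_root_pow {F : Type u} [Field F] (m : ℕ) (f : F[X]) (hfm : f ∣ X ^ m - 1) :
    AdjoinRoot.root f ^ m = 1 := by
  have h1 : AdjoinRoot.mk f (X ^ m - 1) = 0 := AdjoinRoot.mk_eq_zero.2 hfm
  rw [map_sub, map_pow, AdjoinRoot.mk_X, map_one, sub_eq_zero] at h1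
  exact h1

theorem root_inv_ne {F : Type u} [Field F] (m : ℕ) (hm : 3 ≤ m) (f : F[X])
    (hfm : f ∣ X ^ m - 1) (hord : ∀ j : ℕ, f ∣ X ^ j - 1 → m ∣ j) :
    AdjoinRoot.root f ^ (m - 1) ≠ AdjoinRoot.root f := by
  intro h
  have h1 : AdjoinRoot.root f ^ m = 1 := o8_mne_root_pow m f hfm
  have hm1 : m - 1 + 1 = m := by omega
  have h2 : AdjoinRoot.root f ^ 2 = 1 := by
    calc AdjoinRoot.root f ^ 2 = AdjoinRoot.root f * AdjoinRoot.root f := pow_two _
      _ = AdjoinRoot.root f ^ (m - 1) * AdjoinRoot.root f := by rw [h]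
      _ = AdjoinRoot.root f ^ (m - 1 + 1) := (pow_succ _ _).symm
      _ = AdjoinRoot.root f ^ m := by rw [hm1]
      _ = 1 := h1
  have h3 : f ∣ X ^ 2 - 1 := by
    rw [← AdjoinRoot.mk_eq_zero, map_sub, map_pow, AdjoinRoot.mk_X, map_one, h2, sub_self]
  have h4 : m ≤ 2 := Nat.le_of_dvd (by norm_num) (hord 2 h3)
  omega

end Cfsg.Agent.Helper5.O8
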