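import Mathlib
import Cfsg.Agent.Lib.Helper5.O8Defs

/-!
# S3589 farm-out (helper5), piece O8-CYC: an irreducible factor of the `m`-th cyclotomic polynomial
over a finite field, with the order of its roots and its degree.
-/

set_option autoImplicit false

namespace Cfsg.Agent.Helper5.O8

open Polynomial

universe u

/-- in `AdjoinRoot f`, `f ∣ X ^ j - 1` iff the `j`-th power of the root is one. -/
theorem o8_cyc_dvd_iff {F : Type u} [Field F] (f : F[X]) (j : ℕ) :
    f ∣ X ^ j - 1 ↔ AdjoinRoot.root f ^ j = 1 := by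
  rw [← AdjoinRoot.mk_eq_zero, map_sub, map_pow, AdjoinRoot.mk_X, map_one, sub_eq_zero]

theorem exists_cyc_poly {F : Type u} [Field F] [Fintype F] (m : ℕ) (hm : 1 ≤ m)
    (hcop : Nat.Coprime m (Fintype.card F)) :
    ∃ f : F[X], f.Monic ∧ Irreducible f ∧ f ∣ X ^ m - 1 ∧ (∀ j : ℕ, f ∣ X ^ j - 1 → m ∣ j) ∧
      ∀ n : ℕ, f.natDegree ∣ n ↔ m ∣ Fintype.card F ^ n - 1 := by
  classical
  have hΦdeg : (cyclotomic m F).natDegree = Nat.totient m := natDegree_cyclotomic m F
  have hΦnu : ¬ IsUnit (cyclotomic m F) := by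
    intro hu
    have h0 := natDegree_eq_zero_of_isUnit hu
    rw [hΦdeg] at h0
    have : 0 < Nat.totient m := Nat.totient_pos.mpr hm
    omega
  obtain ⟨f, hfmon, hfirr, hfdvd⟩ := Polynomial.exists_monic_irreducible_factor _ hΦnu
  have : Fact (Irreducible f) := ⟨hfirr⟩
  -- the characteristic
  obtain ⟨p, hp⟩ := CharP.exists F
  obtain ⟨k, hpprime, hcard⟩ := FiniteField.card F p
  have : CharP (AdjoinRoot f) p :=
    charP_of_injective_algebraMap (algebraMap F (AdjoinRoot f)).injective p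
  have hmK : (m : AdjoinRoot f) ≠ 0 := by
    intro h0
    have hpm : p ∣ m := (CharP.cast_eq_zero_iff (AdjoinRoot f) p m).1 h0
    have hpq : p ∣ Fintype.card F := by
      rw [hcard]
      exact dvd_pow_self p k.ne_zero
    have := Nat.dvd_gcd hpm hpq
    rw [Nat.Coprime] at hcop
    rw [hcop] at this
    exact hpprime.one_lt.ne' (Nat.dvd_one.1 this)
  have : NeZero (m : AdjoinRoot f) := ⟨hmK⟩
  -- the root is a primitive `m`-th root of unity
  have hroot : IsRoot (cyclotomic m (AdjoinRoot f)) (AdjoinRoot.root f) := by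
    rw [← map_cyclotomic m (AdjoinRoot.of f), IsRoot.def, eval_map]
    have e : eval₂ (AdjoinRoot.of f) (AdjoinRoot.root f) (cyclotomic m F)
        = aeval (AdjoinRoot.root f) (cyclotomic m F) := rfl
    rw [e, AdjoinRoot.aeval_eq]
    exact AdjoinRoot.mk_eq_zero.2 hfdvd
  have hprim : IsPrimitiveRoot (AdjoinRoot.root f) m := isRoot_cyclotomic_iff.1 hroot
  have hq1 : 1 < Fintype.card F := Fintype.one_lt_card
  refine ⟨f, hfmon, hfirr, ?_, ?_, ?_⟩
  · exact hfdvd.trans (cyclotomic.dvd_X_pow_sub_one m F)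
  · intro j hj
    exact hprim.dvd_of_pow_eq_one j ((o8_cyc_dvd_iff f j).1 hj)
  · intro n
    rw [hfirr.natDegree_dvd_iff_dvd_X_pow_card_pow_sub_X, Nat.card_eq_fintype_card,
      ← AdjoinRoot.mk_eq_zero, map_sub, map_pow, AdjoinRoot.mk_X, sub_eq_zero]
    have hpos : 1 ≤ Fintype.card F ^ n := Nat.one_le_pow _ _ (by omega)
    have hr0 : AdjoinRoot.root f ≠ 0 := by
      intro h0
      have h1 := hprim.pow_eq_one
      rw [h0, zero_pow (by omega)] at h1
      exact zero_ne_one h1
    constructor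
    · intro h
      apply hprim.dvd_of_pow_eq_one
      have e : AdjoinRoot.root f ^ (Fintype.card F ^ n - 1) * AdjoinRoot.root f
          = 1 * AdjoinRoot.root f := by
        rw [← pow_succ, Nat.sub_add_cancel hpos, h, one_mul]
      exact mul_right_cancel₀ hr0 e
    · intro h
      have h1 : AdjoinRoot.root f ^ (Fintype.card F ^ n - 1) = 1 :=
        (hprim.pow_eq_one_iff_dvd _).2 h
      calc AdjoinRoot.root f ^ Fintype.card F ^ n
          = AdjoinRoot.root f ^ (Fintype.card F ^ n - 1 + 1) := by rw [Nat.sub_add_cancel hpos]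
        _ = AdjoinRoot.root f := by rw [pow_succ, h1, one_mul]

end Cfsg.Agent.Helper5.O8
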