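import Mathlib
import Cfsg.Agent.Lib.O8.O8CYC

/-!
# S3589 piece O8-MPOLY: an irreducible polynomial of degree exactly `2k` and exact order `q^k + 1`
-/

set_option autoImplicit false

namespace Cfsg.Agent.Helper5.O8

open Polynomial

universe u

theorem o8_mpoly_cop (q k : ℕ) (hk : 1 ≤ k) : Nat.Coprime (q ^ k + 1) q := by
  have h1 : Nat.gcd (q ^ k + 1) q ∣ q ^ k := dvd_pow (Nat.gcd_dvd_right _ _) (by omega)
  have h2 : Nat.gcd (q ^ k + 1) q ∣ q ^ k + 1 := Nat.gcd_dvd_left _ _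
  exact Nat.dvd_one.mp ((Nat.dvd_add_right h1).1 h2)

theorem o8_mpoly_dvd (q k : ℕ) (hq : 2 ≤ q) : (q ^ k + 1) ∣ q ^ (2 * k) - 1 := by
  have hpos : 1 ≤ q ^ k := Nat.one_le_pow _ _ (by omega)
  obtain ⟨z, hz⟩ : ∃ z, q ^ k = z + 1 := ⟨q ^ k - 1, by omega⟩
  have h1 : q ^ (2 * k) = (q ^ k) ^ 2 := by rw [← pow_mul, mul_comm]
  refine ⟨z, ?_⟩
  rw [h1, hz]
  apply Nat.sub_eq_of_eq_add
  ring

theorem o8_mpoly_deg (q k e : ℕ) (hq : 2 ≤ q) (hk : 1 ≤ k) (he : 1 ≤ e)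
    (h : ∀ n : ℕ, e ∣ n ↔ (q ^ k + 1) ∣ q ^ n - 1) : e = 2 * k := by
  have h1 : e ∣ 2 * k := (h (2 * k)).2 (o8_mpoly_dvd q k hq)
  have h2 : (q ^ k + 1) ∣ q ^ e - 1 := (h e).1 dvd_rfl
  have h3 : 2 ≤ q ^ e := by
    calc 2 ≤ q := hq
      _ = q ^ 1 := (pow_one q).symm
      _ ≤ q ^ e := Nat.pow_le_pow_right (by omega) he
  have h4 : q ^ k + 1 ≤ q ^ e - 1 := Nat.le_of_dvd (by omega) h2
  have h5 : q ^ k < q ^ e := by omega
  have h6 : k < e := (Nat.pow_lt_pow_iff_right (by omega)).1 h5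
  exact (Nat.eq_of_dvd_of_lt_two_mul (by omega) h1 (by omega)).symm

theorem exists_minus_poly {F : Type u} [Field F] [Fintype F] (k : ℕ) (hk : 1 ≤ k) :
    ∃ f : F[X], f.Monic ∧ Irreducible f ∧ f.natDegree = 2 * k ∧
      f ∣ X ^ (Fintype.card F ^ k + 1) - 1 ∧
      ∀ j : ℕ, f ∣ X ^ j - 1 → (Fintype.card F ^ k + 1) ∣ j := by
  have hq2 : 2 ≤ Fintype.card F := Fintype.one_lt_card
  obtain ⟨f, hmon, hirr, hdvd, hord, hdeg⟩ :=
    exists_cyc_poly (F := F) (Fintype.card F ^ k + 1) (by omega)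
      (o8_mpoly_cop (Fintype.card F) k hk)
  exact ⟨f, hmon, hirr,
    o8_mpoly_deg (Fintype.card F) k f.natDegree hq2 hk hirr.natDegree_pos hdeg, hdvd, hord⟩

end Cfsg.Agent.Helper5.O8
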