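import Mathlib
import Cfsg.Agent.Lib.Helper5.O8Defs

/-!
# S3589 piece O8-ORDIRR: order of an endomorphism with irreducible characteristic polynomial
-/

set_option autoImplicit false
set_option linter.unusedVariables false

namespace Cfsg.Agent.Helper5.O8

open Polynomial Module

universe u

theorem orderOf_of_irreducible_charpoly {F : Type u} [Field F] {V : Type u} [AddCommGroup V]
    [Module F V] [FiniteDimensional F V] (A : Module.End F V) (m : ℕ) (hm : 1 ≤ m)
    (hAm : A ^ m = 1) (hirr : Irreducible A.charpoly)
    (hord : ∀ j : ℕ, A.charpoly ∣ X ^ j - 1 → m ∣ j) : orderOf A = m := by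
  have hdvd : orderOf A ∣ m := orderOf_dvd_of_pow_eq_one hAm
  apply Nat.dvd_antisymm hdvd
  apply hord
  have hmin : minpoly F A ∣ X ^ orderOf A - 1 := by
    apply minpoly.dvd
    simp [pow_orderOf_eq_one]
  have hmc : minpoly F A ∣ A.charpoly := LinearMap.minpoly_dvd_charpoly A
  have hnt : Nontrivial (Module.End F V) := by
    by_contra hcon
    rw [not_nontrivial_iff_subsingleton] at hcon
    have h1 : minpoly F A = 1 := by
      have h01 : (0 : Module.End F V) = 1 := Subsingleton.elim _ _
      have hdeg : (minpoly F A) ∣ (1 : F[X]) := by
        apply minpoly.dvd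
        simp only [map_one]
        exact h01.symm
      have hu : IsUnit (minpoly F A) := isUnit_of_dvd_one hdeg
      have hmonic : (minpoly F A).Monic := minpoly.monic (Algebra.IsIntegral.isIntegral A)
      exact hmonic.eq_one_of_isUnit hu
    -- then `X ^ 0 - 1 = 0` is divisible by the characteristic polynomial, so `m ∣ 0`; use `A = 1`
    have hA1 : A = 1 := Subsingleton.elim _ _
    have hch : A.charpoly ∣ minpoly F A := by
      -- `A.charpoly` divides a power of `minpoly` ... avoid: directly show irreducibility fails
      exfalso
      have hV : Subsingleton V := by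
        constructor
        intro a b
        have h01 : (0 : Module.End F V) = 1 := Subsingleton.elim _ _
        have ha : a = 0 := by
          have := congrArg (fun f : Module.End F V => f a) h01
          simpa using this.symm
        have hb : b = 0 := by
          have := congrArg (fun f : Module.End F V => f b) h01
          simpa using this.symm
        rw [ha, hb]
      have hfr : finrank F V = 0 := Module.finrank_zero_of_subsingleton
      have hdeg : A.charpoly.natDegree = 0 := by
        rw [LinearMap.charpoly_natDegree, hfr]
      have hmon : A.charpoly.Monic := LinearMap.charpoly_monic A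
      have : A.charpoly = 1 := by
        rw [Polynomial.eq_C_of_natDegree_eq_zero hdeg]
        have hl : A.charpoly.leadingCoeff = 1 := hmon
        rw [Polynomial.leadingCoeff, hdeg] at hl
        rw [hl, map_one]
      exact hirr.not_isUnit (this ▸ isUnit_one)
    exact hirr.not_isUnit (isUnit_of_dvd_one (h1 ▸ hch))
  have hnu : ¬ IsUnit (minpoly F A) := minpoly.not_isUnit F A
  obtain ⟨c, hc⟩ := hmc
  have hcu : IsUnit c := by
    rcases hirr.isUnit_or_isUnit hc with h | h
    · exact absurd h hnu
    · exact h
  have hcm : A.charpoly ∣ minpoly F A := by
    obtain ⟨c', hc'⟩ := hcu.exists_right_inv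
    refine ⟨c', ?_⟩
    rw [hc, mul_assoc, hc', mul_one]
  exact hcm.trans hmin

end Cfsg.Agent.Helper5.O8
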