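import Mathlib
import Cfsg.Agent.Lib.Helper5.O8Defs
import Cfsg.Agent.Lib.Helper10.EOAssembly

/-!
# S3589 piece O8-PEEL: peeling one block off an `(X-1)`-free star-closed polynomial
-/

set_option autoImplicit false

namespace Cfsg.Agent.Helper5.O8

open Polynomial
open Cfsg.Agent.Helper10

universe u

section aux
variable {F : Type u} [Field F]

theorem o8_peel_split [DecidableEq F[X]] (s : Multiset F[X]) (f : F[X]) :
    s.prod = f ^ s.count f * (s.filter (fun g => g ≠ f)).prod := by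
  conv_lhs => rw [← Multiset.filter_add_not (fun g => g = f) s]
  rw [Multiset.prod_add, Multiset.filter_eq', Multiset.prod_replicate]

theorem o8_peel_star_pow (ω : F[X]) (h0 : ω.coeff 0 ≠ 0) (hstar : EO.star ω = ω) (m : ℕ) :
    EO.star (ω ^ m) = ω ^ m ∧ (ω ^ m).coeff 0 ≠ 0 := by
  induction m with
  | zero =>
    rw [pow_zero]
    exact ⟨EO.eo_starcount_star_one, by rw [coeff_one_zero]; exact one_ne_zero⟩
  | succ m ih =>
    have h1 : (ω ^ (m + 1)).coeff 0 ≠ 0 := by
      rw [pow_succ, mul_coeff_zero]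
      exact mul_ne_zero ih.2 h0
    refine ⟨?_, h1⟩
    rw [pow_succ, EO.star_mul_irreducible.1 _ _ ih.2 h0, ih.1, hstar]

/-- the common end of both cases -/
theorem o8_peel_finish (χ ω P : F[X]) (m : ℕ) (hχ : χ = ω ^ m * P) (hmon : χ.Monic)
    (h0 : χ.coeff 0 ≠ 0) (hstar : EO.star χ = χ) (h1 : χ.eval 1 ≠ 0) (hωmon : ω.Monic)
    (hω0 : ω.coeff 0 ≠ 0) (hωstar : EO.star ω = ω) :
    P.Monic ∧ P.coeff 0 ≠ 0 ∧ EO.star P = P ∧ P.eval 1 ≠ 0 := by
  obtain ⟨hs, hc⟩ := o8_peel_star_pow ω hω0 hωstar m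
  have hP0 : P.coeff 0 ≠ 0 := by
    intro h
    apply h0
    rw [hχ, mul_coeff_zero, h, mul_zero]
  refine ⟨?_, hP0, ?_, ?_⟩
  · apply Monic.of_mul_monic_left (hωmon.pow m)
    rw [← hχ]
    exact hmon
  · have h2 : EO.star χ = ω ^ m * EO.star P := by
      rw [hχ, EO.star_mul_irreducible.1 _ _ hc hP0, hs]
    rw [hstar] at h2
    have h3 : ω ^ m * P = ω ^ m * EO.star P := by rw [← hχ]; exact h2
    exact (mul_left_cancel₀ (pow_ne_zero m hωmon.ne_zero) h3).symm
  · intro h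
    apply h1
    rw [hχ, eval_mul, h, mul_zero]

theorem o8_peel_not_dvd_prod (f : F[X]) (hf : Irreducible f) (hfm : f.Monic) (t : Multiset F[X])
    (ht : ∀ g ∈ t, g.Monic ∧ Irreducible g ∧ g ≠ f) : ¬ f ∣ t.prod := by
  intro h
  obtain ⟨g, hg, hfg⟩ := Prime.exists_mem_multiset_dvd hf.prime h
  obtain ⟨hgm, hgi, hne⟩ := ht g hg
  exact hne (eq_of_monic_of_associated hfm hgm (hf.associated_of_dvd hgi hfg)).symm

end aux

-- PIECE O8-PEEL
theorem peel {F : Type u} [Field F] [Fintype F] [CharP F 2] (χ : F[X]) (hmon : χ.Monic)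
    (h0 : χ.coeff 0 ≠ 0) (hstar : EO.star χ = χ) (h1 : χ.eval 1 ≠ 0) (hdeg : 0 < χ.natDegree) :
    ∃ (ω χ' : F[X]) (d m : ℕ), 1 ≤ d ∧ 1 ≤ m ∧ χ = ω ^ m * χ' ∧ ω.natDegree = 2 * d ∧ ω.Monic ∧
      (ω ∣ X ^ (Fintype.card F ^ d + 1) - 1 ∨ ω ∣ X ^ (Fintype.card F ^ d - 1) - 1) ∧
      IsCoprime ω χ' ∧ χ'.Monic ∧ χ'.coeff 0 ≠ 0 ∧ EO.star χ' = χ' ∧ χ'.eval 1 ≠ 0 := by
  classical
  obtain ⟨s, hsprod, hs⟩ := EO.exists_factorization χ hmon h0
  have hsne : s ≠ 0 := by
    rintro rfl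
    rw [Multiset.prod_zero] at hsprod
    rw [← hsprod, natDegree_one] at hdeg
    exact lt_irrefl 0 hdeg
  obtain ⟨f, hf⟩ := Multiset.exists_mem_of_ne_zero hsne
  obtain ⟨hfmon, hfirr, hf0⟩ := hs f hf
  have hfdvd : f ∣ χ := by rw [← hsprod]; exact Multiset.dvd_prod hf
  have hfdeg1 : 1 ≤ f.natDegree := hfirr.natDegree_pos
  set m := s.count f with hm
  have hm1 : 1 ≤ m := Multiset.count_pos.mpr hf
  have hsplit := o8_peel_split s f
  rw [hsprod, ← hm] at hsplit
  have hcount := EO.count_star s hs (by rw [hsprod]; exact hstar) f hf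
  by_cases hst : EO.star f = f
  · -- the self-dual case
    have hdeg2 : 2 ≤ f.natDegree := by
      by_contra hlt
      have hd1 : f.natDegree = 1 := by omega
      have hroot : f.eval 1 = 0 := by
        rcases EO.self_reciprocal_deg_one f hfmon hd1 hst with h | h
        · rw [h]; simp
        · rw [h]
          simp only [eval_add, eval_X, eval_one]
          exact CharTwo.add_self_eq_zero (1 : F)
      apply h1
      obtain ⟨c, hc⟩ := hfdvd
      rw [hc, eval_mul, hroot, zero_mul]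
    obtain ⟨heven, hdvd⟩ := EO.self_reciprocal_irreducible f hfmon hfirr hf0 hst hdeg2
    obtain ⟨d, hd⟩ := heven
    have hd2 : f.natDegree / 2 = d := by omega
    rw [hd2] at hdvd
    set P := (s.filter (fun g => g ≠ f)).prod with hP
    obtain ⟨hPmon, hP0, hPstar, hP1⟩ := o8_peel_finish χ f P m hsplit hmon h0 hstar h1 hfmon hf0 hst
    refine ⟨f, P, d, m, by omega, hm1, hsplit, by omega, hfmon, Or.inl hdvd, ?_, hPmon, hP0,
      hPstar, hP1⟩
    rw [hfirr.coprime_iff_not_dvd]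
    apply o8_peel_not_dvd_prod f hfirr hfmon
    intro g hg
    rw [Multiset.mem_filter] at hg
    exact ⟨(hs g hg.1).1, (hs g hg.1).2.1, hg.2⟩
  · -- a dual pair
    set f' := EO.star f with hf'
    obtain ⟨hf'mon, hf'deg, hf'0, hf'ss⟩ := EO.star_facts f hf0
    have hf'irr : Irreducible f' := EO.star_mul_irreducible.2 f hf0 hfirr
    have hf'mem : f' ∈ s := by
      rw [← Multiset.count_pos, hcount]
      exact hm1
    set s₁ := s.filter (fun g => g ≠ f) with hs₁
    have hcount₁ : s₁.count f' = m := by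
      rw [hs₁, Multiset.count_filter_of_pos (p := fun g => g ≠ f) hst, hcount]
    have hsplit₁ := o8_peel_split s₁ f'
    rw [hcount₁] at hsplit₁
    set P := (s₁.filter (fun g => g ≠ f')).prod with hP
    have hχ : χ = (f * f') ^ m * P := by
      rw [hsplit, hsplit₁, mul_pow, mul_assoc]
    have hωmon : (f * f').Monic := hfmon.mul hf'mon
    have hω0 : (f * f').coeff 0 ≠ 0 := by
      rw [mul_coeff_zero]
      exact mul_ne_zero hf0 hf'0
    have hωstar : EO.star (f * f') = f * f' := by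
      rw [EO.star_mul_irreducible.1 f f' hf0 hf'0, hf'ss hfmon, mul_comm]
    obtain ⟨hPmon, hP0, hPstar, hP1⟩ :=
      o8_peel_finish χ (f * f') P m hχ hmon h0 hstar h1 hωmon hω0 hωstar
    have hcopff' : IsCoprime f f' := by
      rw [hfirr.coprime_iff_not_dvd]
      intro hd
      exact hst (eq_of_monic_of_associated hfmon hf'mon (hfirr.associated_of_dvd hf'irr hd)).symm
    have hdvd1 := EO.irreducible_dvd_X_pow_sub_one f hfmon hfirr hf0
    have hdvd2 := EO.irreducible_dvd_X_pow_sub_one f' hf'mon hf'irr hf'0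
    rw [hf'deg] at hdvd2
    refine ⟨f * f', P, f.natDegree, m, hfdeg1, hm1, hχ, ?_, hωmon,
      Or.inr (IsCoprime.mul_dvd hcopff' hdvd1 hdvd2), ?_, hPmon, hP0, hPstar, hP1⟩
    · rw [hfmon.natDegree_mul hf'mon, hf'deg]
      ring
    · apply IsCoprime.mul_left
      · rw [hfirr.coprime_iff_not_dvd]
        apply o8_peel_not_dvd_prod f hfirr hfmon
        intro g hg
        rw [Multiset.mem_filter, hs₁, Multiset.mem_filter] at hg
        exact ⟨(hs g hg.1.1).1, (hs g hg.1.1).2.1, hg.1.2⟩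
      · rw [hf'irr.coprime_iff_not_dvd]
        apply o8_peel_not_dvd_prod f' hf'irr hf'mon
        intro g hg
        rw [Multiset.mem_filter, hs₁, Multiset.mem_filter] at hg
        exact ⟨(hs g hg.1.1).1, (hs g hg.1.1).2.1, hg.2⟩

end Cfsg.Agent.Helper5.O8
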