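import Mathlib
import Cfsg.Prelude.Def_Classical
import Cfsg.Agent.Lib.Helper5.O8Defs
import Cfsg.Agent.Lib.Helper13.OrthType4
import Cfsg.Agent.Lib.Helper13.SympReal
import Cfsg.Agent.Lib.Helper13.OrthReal

/-!
# S3589 piece O8-PROD (helper15): orthogonal sum of two `QOrd` spaces.
-/

set_option autoImplicit false

namespace Cfsg.Agent.Helper5.O8

open Polynomial Module QuadraticMap
open Cfsg.Agent.Helper13 Cfsg.Agent.Helper13.OrthSS

universe u

theorem o8_prod_prodMap_eq_one {F : Type*} [Field F] {V W : Type*} [AddCommGroup V] [Module F V]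
    [AddCommGroup W] [Module F W] (f : Module.End F V) (g : Module.End F W) :
    f.prodMap g = 1 ↔ f = 1 ∧ g = 1 := by
  constructor
  · intro h
    constructor
    · apply LinearMap.ext
      intro x
      have := congrArg (fun φ : Module.End F (V × W) => (φ (x, 0)).1) h
      simpa using this
    · apply LinearMap.ext
      intro y
      have := congrArg (fun φ : Module.End F (V × W) => (φ (0, y)).2) h
      simpa using this
  · rintro ⟨rfl, rfl⟩
    apply LinearMap.ext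
    rintro ⟨x, y⟩
    rfl

-- PIECE O8-PROD
theorem qord_prod {F : Type u} [Field F] [Fintype F] {d₁ d₂ n₁ n₂ : ℕ} {t₁ t₂ : Prop}
    (h₁ : QOrd F d₁ n₁ t₁) (h₂ : QOrd F d₂ n₂ t₂) :
    QOrd F (d₁ + d₂) (Nat.lcm n₁ n₂) (t₁ ↔ t₂) := by
  obtain ⟨V, _, _, _, A, Q, hAo, hn, hQ, hAQ, hd, hev, ht⟩ := h₁
  obtain ⟨W, _, _, _, A', Q', hAo', hn', hQ', hAQ', hd', hev', ht'⟩ := h₂
  refine ⟨V × W, inferInstance, inferInstance, inferInstance, A.prodMap A',
    QuadraticMap.prod Q Q', ?_, Nat.lcm_pos hn hn', nondeg_prod Q Q' hQ hQ', ?_, ?_, hev.add hev', ?_⟩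
  · have key : ∀ j : ℕ, (A.prodMap A') ^ j = 1 ↔ n₁ ∣ j ∧ n₂ ∣ j := by
      intro j
      rw [Cfsg.Agent.Helper13.SympSS.prodMap_pow, o8_prod_prodMap_eq_one, ← hAo, ← hAo',
        orderOf_dvd_iff_pow_eq_one, orderOf_dvd_iff_pow_eq_one]
    apply Nat.dvd_antisymm
    · apply orderOf_dvd_of_pow_eq_one
      rw [key]
      exact ⟨Nat.dvd_lcm_left _ _, Nat.dvd_lcm_right _ _⟩
    · have := (key _).1 (pow_orderOf_eq_one (A.prodMap A'))
      exact Nat.lcm_dvd this.1 this.2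
  · rintro ⟨x, y⟩
    show QuadraticMap.prod Q Q' (A x, A' y) = QuadraticMap.prod Q Q' (x, y)
    rw [QuadraticMap.prod_apply, QuadraticMap.prod_apply, hAQ, hAQ']
  · rw [Module.finrank_prod, hd, hd']
  · rw [isHyp_prod_iff Q Q' hQ hQ' (hd ▸ hev) (hd' ▸ hev'), ht, ht']

end Cfsg.Agent.Helper5.O8
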