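import Mathlib
import Cfsg.Prelude.Def_Classical
import Cfsg.Agent.Lib.Helper5.O8Defs
import Cfsg.Agent.Lib.Helper13.OrthType2
import Cfsg.Agent.Lib.Helper13.OrthEmbed
import Cfsg.Agent.Lib.Helper2.OrthOrders

/-!
# S3589 farm-out, piece O8-REAL (helper5's skeleton): realising a typed quadratic space with an
isometry of order `n` inside `GO(quadFormMinus 3 F a b)`.  Typed by helper19.
-/

set_option autoImplicit false

namespace Cfsg.Agent.Helper5.O8

open Polynomial Module QuadraticMap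
open Cfsg.Agent.Helper13 Cfsg.Agent.Helper13.OrthSS

universe u

theorem o8_real_LG_injective {F : Type*} [Field F] {ι : Type} [Fintype ι] [DecidableEq ι] :
    Function.Injective (LG : GL ι F → Module.End F (ι → F)) := by
  intro x y h
  unfold LG at h
  exact Units.ext ((Matrix.toLinAlgEquiv' (R := F) (n := ι)).injective h)

theorem o8_real_conj_pow {F : Type*} [Field F] {V W : Type*} [AddCommGroup V] [Module F V]
    [AddCommGroup W] [Module F W] (e : V ≃ₗ[F] W) (A : Module.End F V) (k : ℕ) :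
    (e.conj A) ^ k = e.conj (A ^ k) := by
  have h3 : ∀ B : Module.End F V, e.conj B = e.conjRingEquiv B := fun _ => rfl
  rw [h3, h3, map_pow]

theorem o8_real_conj_eq_one {F : Type*} [Field F] {V W : Type*} [AddCommGroup V] [Module F V]
    [AddCommGroup W] [Module F W] (e : V ≃ₗ[F] W) (A : Module.End F V) :
    e.conj A = 1 ↔ A = 1 := by
  have h3 : ∀ B : Module.End F V, e.conj B = e.conjRingEquiv B := fun _ => rfl
  rw [h3]
  constructor
  · intro h
    have h4 : e.conjRingEquiv A = e.conjRingEquiv 1 := by rw [h, map_one]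
    exact e.conjRingEquiv.injective h4
  · intro h
    rw [h, map_one]

-- PIECE O8-REAL
theorem exists_go_of_qord {F : Type u} [Field F] [Fintype F] (a b : F)
    (han : ∀ z₁ z₂ : F, z₁ ^ 2 + a * z₁ * z₂ + b * z₂ ^ 2 = 0 → z₁ = 0 ∧ z₂ = 0) (n : ℕ)
    (h : QOrd F 8 n False) :
    ∃ g : ↥(Cfsg.isometryGroup F (Cfsg.quadFormMinus 3 F a b)), orderOf g = n := by
  classical
  obtain ⟨V, _, _, _, A, Q, hAn, hn, hQ, hAQ, hdim, heven, htype⟩ := h
  have hQ' : (polarBilin (matQ (minusMat 3 a b))).Nondegenerate :=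
    Cfsg.Agent.Helper2.Orth.nondeg_minus (m := 3) a b han
  have hnh : ¬ IsHyp (matQ (minusMat 3 a b)) := not_isHyp_minusMat 3 a b han
  have hdim' : finrank F V = finrank F ((Fin 3 ⊕ Fin 3) ⊕ Fin 2 → F) := by
    rw [hdim, Module.finrank_fintype_fun_eq_card]
    simp
  obtain ⟨e, he⟩ := equiv_of_type Q (matQ (minusMat 3 a b)) hQ hQ' hdim' (by rw [hdim]; exact heven)
    (by rw [htype]; exact (iff_false_intro hnh).symm)
  have hgQ : ∀ v, Cfsg.quadFormMinus 3 F a b (e.conj A v) = Cfsg.quadFormMinus 3 F a b v := by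
    intro v
    rw [Cfsg.Agent.Helper2.Orth.quadFormMinus_eq, LinearEquiv.conj_apply_apply, he, hAQ, ← he,
      e.apply_symm_apply]
  have hAn1 : A ^ n = 1 := by rw [← hAn]; exact pow_orderOf_eq_one A
  have hgn : (e.conj A) ^ n = 1 := by
    rw [o8_real_conj_pow, hAn1, (o8_real_conj_eq_one e 1).2 rfl]
  obtain ⟨x, hx, hxn, hLx⟩ := exists_gl_of_end (Cfsg.quadFormMinus 3 F a b) (e.conj A) hgQ n hn hgn
  refine ⟨⟨x, hx⟩, ?_⟩
  rw [← hAn, ← Subgroup.orderOf_coe]
  show orderOf x = orderOf A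
  rw [orderOf_eq_orderOf_iff]
  intro k
  constructor
  · intro hk
    have h1 : LG (x ^ k) = LG 1 := by rw [hk]
    rw [LG_pow, hLx, LG_one, o8_real_conj_pow, o8_real_conj_eq_one] at h1
    exact h1
  · intro hk
    apply o8_real_LG_injective
    rw [LG_pow, hLx, LG_one, o8_real_conj_pow, hk, (o8_real_conj_eq_one e 1).2 rfl]

end Cfsg.Agent.Helper5.O8
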