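import Mathlib
import Cfsg.Prelude.Def_Classical
import Cfsg.Agent.Lib.Helper5.O8Defs
import Cfsg.Agent.Lib.Helper13.OrthTy5
import Cfsg.Agent.Lib.Helper13.SpDec2

/-!
# S3589, piece O8-SEMIREG
-/

set_option autoImplicit false

namespace Cfsg.Agent.Helper5.O8

open Polynomial Module QuadraticMap
open Cfsg.Agent.Helper13 Cfsg.Agent.Helper13.OrthSS

universe u

section aux

variable {F : Type u} [Field F] {V : Type u} [AddCommGroup V] [Module F V]

theorem o8_semireg_pow_isom (Q : QuadraticForm F V) (A : Module.End F V)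
    (hA : ∀ v, Q (A v) = Q v) (j : ℕ) (v : V) : Q ((A ^ j) v) = Q v := by
  induction j generalizing v with
  | zero => rw [pow_zero, Module.End.one_apply]
  | succ j ih => rw [pow_succ, Module.End.mul_apply, ih, hA]

/-- the permutation of the nonzero singular vectors induced by an isometry of finite order -/
noncomputable def o8_semireg_perm (Q : QuadraticForm F V) (A B : Module.End F V)
    (hA : ∀ v, Q (A v) = Q v) (hAB : A * B = 1) (hBA : B * A = 1) :
    Equiv.Perm {v : V // v ≠ 0 ∧ Q v = 0} where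
  toFun v := ⟨A v.1, by
    refine ⟨fun h => v.2.1 ?_, by rw [hA]; exact v.2.2⟩
    have h1 : (B * A) v.1 = v.1 := by rw [hBA, Module.End.one_apply]
    rw [Module.End.mul_apply, h, map_zero] at h1
    exact h1.symm⟩
  invFun v := ⟨B v.1, by
    have h1 : (A * B) v.1 = v.1 := by rw [hAB, Module.End.one_apply]
    rw [Module.End.mul_apply] at h1
    refine ⟨fun h => v.2.1 ?_, ?_⟩
    · rw [h, map_zero] at h1
      exact h1.symm
    · rw [← hA, h1]
      exact v.2.2⟩
  left_inv v := by
    apply Subtype.ext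
    show B (A v.1) = v.1
    rw [← Module.End.mul_apply, hBA, Module.End.one_apply]
  right_inv v := by
    apply Subtype.ext
    show A (B v.1) = v.1
    rw [← Module.End.mul_apply, hAB, Module.End.one_apply]

theorem o8_semireg_perm_pow (Q : QuadraticForm F V) (A B : Module.End F V)
    (hA : ∀ v, Q (A v) = Q v) (hAB : A * B = 1) (hBA : B * A = 1) (m : ℕ)
    (x : {v : V // v ≠ 0 ∧ Q v = 0}) :
    (((o8_semireg_perm Q A B hA hAB hBA) ^ m) x : V) = (A ^ m) x.1 := by
  induction m generalizing x with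
  | zero => rw [pow_zero, pow_zero, Module.End.one_apply]; rfl
  | succ m ih =>
    rw [pow_succ, pow_succ, Equiv.Perm.mul_apply, ih, Module.End.mul_apply]
    rfl

/-- a finite-order isometry which is semiregular on the nonzero vectors: its order divides the
number of nonzero singular vectors -/
theorem o8_semireg_dvd [Finite V] (Q : QuadraticForm F V) (A : Module.End F V)
    (hA : ∀ v, Q (A v) = Q v) (n : ℕ) (hn : 0 < n) (hAn : A ^ n = 1)
    (hfix : ∀ (j : ℕ) (v : V), v ≠ 0 → (A ^ j) v = v → A ^ j = 1) :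
    orderOf A ∣ Nat.card {v : V // v ≠ 0 ∧ Q v = 0} := by
  classical
  obtain ⟨n', rfl⟩ : ∃ n', n = n' + 1 := ⟨n - 1, by omega⟩
  have hAB : A * A ^ n' = 1 := by rw [← pow_succ', hAn]
  have hBA : A ^ n' * A = 1 := by rw [← pow_succ, hAn]
  set σ := o8_semireg_perm Q A (A ^ n') hA hAB hBA with hσ
  have hpow := o8_semireg_perm_pow Q A (A ^ n') hA hAB hBA
  by_cases hX : Nonempty {v : V // v ≠ 0 ∧ Q v = 0}
  · obtain ⟨x0⟩ := hX
    -- `orderOf A ∣ orderOf σ`
    have h1 : orderOf A ∣ orderOf σ := by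
      apply orderOf_dvd_of_pow_eq_one
      apply hfix _ x0.1 x0.2.1
      rw [← hpow, pow_orderOf_eq_one]
      rfl
    -- free action of `zpowers σ`
    have hfree : ∀ x : {v : V // v ≠ 0 ∧ Q v = 0},
        MulAction.stabilizer (↥(Subgroup.zpowers σ)) x = ⊥ := by
      intro x
      rw [eq_bot_iff]
      rintro ⟨g, hg⟩ hgx
      rw [Subgroup.mem_bot]
      apply Subtype.ext
      show g = 1
      rw [← mem_powers_iff_mem_zpowers, Submonoid.mem_powers_iff] at hg
      obtain ⟨m, rfl⟩ := hg
      have h2 : (σ ^ m) x = x := hgx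
      have h3 : (A ^ m) x.1 = x.1 := by rw [← hpow, h2]
      have h4 : A ^ m = 1 := hfix m x.1 x.2.1 h3
      ext y
      rw [hpow, h4, Module.End.one_apply]
      rfl
    have h2 := Cfsg.Agent.Helper13.SpDec.card_dvd_of_free hfree
    rw [Nat.card_zpowers] at h2
    exact h1.trans h2
  · rw [not_nonempty_iff] at hX
    rw [Nat.card_of_isEmpty]
    exact dvd_zero _

end aux

theorem o8_semireg_card {F : Type u} [Field F] {V : Type u} [AddCommGroup V] [Module F V]
    [Finite V] (Q : QuadraticForm F V) :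
    Nat.card {v : V // Q v = 0} = Nat.card {v : V // v ≠ 0 ∧ Q v = 0} + 1 := by
  classical
  have := Fintype.ofFinite V
  rw [Nat.card_eq_fintype_card, Nat.card_eq_fintype_card, Fintype.card_subtype,
    Fintype.card_subtype]
  have : (Finset.univ.filter fun v : V => Q v = 0) =
      insert 0 (Finset.univ.filter fun v : V => v ≠ 0 ∧ Q v = 0) := by
    ext v
    simp only [Finset.mem_filter, Finset.mem_univ, true_and, Finset.mem_insert]
    constructor
    · intro h
      by_cases hv : v = 0
      · exact Or.inl hv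
      · exact Or.inr ⟨hv, h⟩
    · rintro (h | h)
      · rw [h, map_zero]
      · exact h.2
  rw [this, Finset.card_insert_of_notMem]
  simp

-- PIECE O8-SEMIREG
theorem not_isHyp_of_semiregular {F : Type u} [Field F] [Fintype F] {V : Type u} [AddCommGroup V]
    [Module F V] [FiniteDimensional F V] (Q : QuadraticForm F V)
    (hQ : (polarBilin Q).Nondegenerate) (A : Module.End F V) (hA : ∀ v, Q (A v) = Q v)
    (k : ℕ) (hk : 1 ≤ k) (hfin : finrank F V = 2 * k)
    (hord : orderOf A = Fintype.card F ^ k + 1)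
    (hfix : ∀ (j : ℕ) (v : V), v ≠ 0 → (A ^ j) v = v → A ^ j = 1)
    (harith : ¬ (Fintype.card F ^ k + 1) ∣
      (Fintype.card F ^ k - 1) * (Fintype.card F ^ (k - 1) + 1)) :
    ¬ IsHyp Q := by
  intro hH
  have : Finite V := Module.finite_of_finite F
  obtain ⟨k', rfl⟩ : ∃ k', k = k' + 1 := ⟨k - 1, by omega⟩
  have h1 := Cfsg.Agent.Helper13.OrthTy.card_sing_typed Q hQ k' hfin
  rw [o8_semireg_card Q] at h1
  have h2 : Nat.card {v : V // v ≠ 0 ∧ Q v = 0} =
      (Fintype.card F ^ (k' + 1) - 1) * (Fintype.card F ^ (k' + 1 - 1) + 1) := by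
    have h3 := Nat.add_right_cancel h1
    rw [h3]
    unfold Cfsg.Agent.Helper13.OrthTy.NS
    rw [if_pos hH]
  have hpos : 0 < Fintype.card F ^ (k' + 1) + 1 := Nat.succ_pos _
  have hAn : A ^ (Fintype.card F ^ (k' + 1) + 1) = 1 := by
    rw [← hord, pow_orderOf_eq_one]
  have h4 := o8_semireg_dvd Q A hA _ hpos hAn hfix
  rw [hord, h2] at h4
  exact harith h4

end Cfsg.Agent.Helper5.O8
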