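import Mathlib
import Cfsg.Agent.Lib.Helper5.O8Defs

/-!
# S3589 piece O8-GEOM2 (helper3): in characteristic 2, `Σ_{i<2^s} a^i = (a - 1)^(2^s - 1)`.
-/

set_option autoImplicit false

namespace Cfsg.Agent.Helper5.O8

open Polynomial Module QuadraticMap

universe u

/-- the polynomial identity `Σ_{i<2^s} X^i = (X - 1)^(2^s - 1)` in characteristic 2. -/
theorem o8_geom2_poly {F : Type u} [Field F] [CharP F 2] (s : ℕ) :
    ∑ i ∈ Finset.range (2 ^ s), (X : F[X]) ^ i = (X - 1) ^ (2 ^ s - 1) := by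
  have hX1 : (X - 1 : F[X]) ≠ 0 := Polynomial.X_sub_C_ne_zero (1 : F)
  have hpos : 1 ≤ 2 ^ s := Nat.one_le_two_pow
  have h1 : (X - 1 : F[X]) * ∑ i ∈ Finset.range (2 ^ s), (X : F[X]) ^ i = X ^ (2 ^ s) - 1 :=
    mul_geom_sum X (2 ^ s)
  have h2 : (X - 1 : F[X]) ^ (2 ^ s) = X ^ (2 ^ s) - 1 := by
    rw [sub_pow_char_pow, one_pow]
  have h3 : (X - 1 : F[X]) * (X - 1) ^ (2 ^ s - 1) = (X - 1) ^ (2 ^ s) := by
    rw [← pow_succ', Nat.sub_add_cancel hpos]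
  apply mul_left_cancel₀ hX1
  rw [h1, h3, h2]

-- PIECE O8-GEOM2
theorem geom_sum_char_two {F : Type u} [Field F] [CharP F 2] {V : Type u} [AddCommGroup V]
    [Module F V] (a : Module.End F V) (s : ℕ) :
    ∑ i ∈ Finset.range (2 ^ s), a ^ i = (a - 1) ^ (2 ^ s - 1) := by
  have h := congrArg (Polynomial.aeval a) (o8_geom2_poly (F := F) s)
  simpa using h

end Cfsg.Agent.Helper5.O8
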