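import Mathlib
import Cfsg.Agent.Lib.Helper5.O8Defs

/-!
# S3589, piece O8-HYPQ: the hyperbolic plane
-/

set_option autoImplicit false

namespace Cfsg.Agent.Helper5.O8

open Polynomial Module QuadraticMap
open Cfsg.Agent.Helper13 Cfsg.Agent.Helper13.OrthSS

universe u

theorem o8_hypq_polar {F : Type u} [Field F] (u v : F × F) :
    polarBilin (hypQ F) u v = u.1 * v.2 + v.1 * u.2 := by
  rw [polarBilin_apply_apply, polar, hypQ_apply, hypQ_apply, hypQ_apply]
  simp only [Prod.fst_add, Prod.snd_add]
  ring

-- PIECE O8-HYPQ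
theorem hypQ_facts (F : Type u) [Field F] :
    (polarBilin (hypQ F)).Nondegenerate ∧ IsHyp (hypQ F) ∧ finrank F (F × F) = 2 := by
  have hfr : finrank F (F × F) = 2 := by
    rw [Module.finrank_prod, Module.finrank_self]
  refine ⟨?_, ?_, hfr⟩
  · constructor
    · intro m hm
      have h1 := hm (0, 1)
      have h2 := hm (1, 0)
      rw [o8_hypq_polar] at h1 h2
      simp at h1 h2
      exact Prod.ext h1 h2
    · intro m hm
      have h1 := hm (0, 1)
      have h2 := hm (1, 0)
      rw [o8_hypq_polar] at h1 h2
      simp at h1 h2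
      exact Prod.ext h1 h2
  · refine ⟨Submodule.span F {((1 : F), (0 : F))}, ?_, ?_⟩
    · intro x hx
      obtain ⟨c, rfl⟩ := Submodule.mem_span_singleton.1 hx
      rw [hypQ_apply]
      simp
    · rw [hfr, finrank_span_singleton]
      intro h
      have := congrArg Prod.fst h
      simp at this

end Cfsg.Agent.Helper5.O8
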