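import Mathlib
import Cfsg.Agent.Lib.Helper5.O8Defs

/-! S3589 farm-out (designer helper5), piece O8-SIEGISO. Proved by helper18. -/

set_option autoImplicit false

namespace Cfsg.Agent.Helper5.O8

open Polynomial Module QuadraticMap

universe u

-- PIECE O8-SIEGISO
theorem siegel_isometry {F : Type u} [Field F] [CharP F 2] {W : Type u} [AddCommGroup W]
    [Module F W] (Q : QuadraticForm F W) (w : W) (h : Module.End F W)
    (hh : ∀ z, Q (h z) = Q z) (v : (F × F) × W) :
    (QuadraticMap.prod (hypQ F) Q) (siegel Q w h v) = (QuadraticMap.prod (hypQ F) Q) v := by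
  obtain ⟨⟨x, y⟩, z⟩ := v
  rw [siegel_apply, QuadraticMap.prod_apply, QuadraticMap.prod_apply]
  simp only [hypQ_apply]
  rw [QuadraticMap.map_add Q (h z) (y • w), QuadraticMap.map_smul Q y w, polar_smul_right, hh]
  have h2 : (2 : F) = 0 := CharTwo.two_eq_zero
  simp only [smul_eq_mul]
  linear_combination (y * polar Q (h z) w + y * y * Q w) * h2

end Cfsg.Agent.Helper5.O8
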