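import Mathlib
import Cfsg.Agent.Lib.Helper5.O8Defs

/-! S3589 farm-out (designer helper5), piece O8-SIEGMUL. Proved by helper18. -/

set_option autoImplicit false

namespace Cfsg.Agent.Helper5.O8

open Polynomial Module QuadraticMap

universe u

theorem o8_siegmul_polar {F : Type u} [Field F] {W : Type u} [AddCommGroup W]
    [Module F W] (Q : QuadraticForm F W) (h : Module.End F W)
    (hh : ∀ z, Q (h z) = Q z) (a b : W) : polar Q (h a) (h b) = polar Q a b := by
  unfold polar
  rw [← map_add, hh, hh, hh]

-- PIECE O8-SIEGMUL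
theorem siegel_mul {F : Type u} [Field F] {W : Type u} [AddCommGroup W]
    [Module F W] (Q : QuadraticForm F W) (w w' : W) (h h' : Module.End F W)
    (hh : ∀ z, Q (h z) = Q z) :
    siegel Q w h * siegel Q w' h' = siegel Q (w + h w') (h * h') := by
  apply LinearMap.ext
  rintro ⟨⟨x, y⟩, z⟩
  rw [Module.End.mul_apply, siegel_apply, siegel_apply, siegel_apply]
  refine Prod.ext (Prod.ext ?_ ?_) ?_
  · simp only [map_add, map_smul, polar_add_left, polar_smul_left, polar_add_right,
      Module.End.mul_apply, smul_eq_mul]
    rw [QuadraticMap.map_add Q w (h w'), o8_siegmul_polar Q h hh, hh, polar_comm Q w (h w')]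
    ring
  · rfl
  · simp only [map_add, map_smul, smul_add, Module.End.mul_apply]
    abel

end Cfsg.Agent.Helper5.O8
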