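import Mathlib
import Cfsg.Agent.Lib.Helper5.O8Defs

/-! S3589 farm-out (designer helper5), piece O8-SIEGONE. Proved by helper18. -/

set_option autoImplicit false

namespace Cfsg.Agent.Helper5.O8

open Polynomial Module QuadraticMap

universe u

-- PIECE O8-SIEGONE
theorem siegel_one {F : Type u} [Field F] {W : Type u} [AddCommGroup W]
    [Module F W] (Q : QuadraticForm F W) :
    siegel Q 0 1 = 1 ∧ ∀ (w : W) (h : Module.End F W), siegel Q w h = 1 → w = 0 ∧ h = 1 := by
  constructor
  · apply LinearMap.ext
    rintro ⟨⟨x, y⟩, z⟩
    rw [siegel_apply]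
    simp
  · intro w h hw
    have h1 := congrArg (fun f : Module.End F ((F × F) × W) => f ((0, 1), 0)) hw
    simp only [siegel_apply, Module.End.one_apply] at h1
    have hw0 : w = 0 := by
      have := congrArg Prod.snd h1
      simpa using this
    refine ⟨hw0, ?_⟩
    apply LinearMap.ext
    intro z
    have h2 := congrArg (fun f : Module.End F ((F × F) × W) => f ((0, 0), z)) hw
    simp only [siegel_apply, Module.End.one_apply] at h2
    have := congrArg Prod.snd h2
    simpa using this

end Cfsg.Agent.Helper5.O8
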