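import Mathlib
import Cfsg.Agent.Lib.Helper5.O8Defs
import Cfsg.Agent.Lib.O8.O8SIEGMUL
import Cfsg.Agent.Lib.O8.O8SIEGONE

/-! S3589 farm-out (designer helper5), piece O8-SIEGPOW. Proved by helper18. -/

set_option autoImplicit false

namespace Cfsg.Agent.Helper5.O8

open Polynomial Module QuadraticMap

universe u

theorem o8_siegpow_isom {F : Type u} [Field F] {W : Type u} [AddCommGroup W]
    [Module F W] (Q : QuadraticForm F W) (h : Module.End F W)
    (hh : ∀ z, Q (h z) = Q z) (n : ℕ) : ∀ z, Q ((h ^ n) z) = Q z := by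
  induction n with
  | zero => intro z; simp
  | succ n ih =>
    intro z
    rw [pow_succ, Module.End.mul_apply, ih, hh]

-- PIECE O8-SIEGPOW
theorem siegel_pow {F : Type u} [Field F] {W : Type u} [AddCommGroup W]
    [Module F W] (Q : QuadraticForm F W) (w : W) (h : Module.End F W)
    (hh : ∀ z, Q (h z) = Q z) (n : ℕ) :
    siegel Q w h ^ n = siegel Q (∑ i ∈ Finset.range n, (h ^ i) w) (h ^ n) := by
  induction n with
  | zero =>
    rw [pow_zero, pow_zero, Finset.range_zero, Finset.sum_empty]
    exact (siegel_one Q).1.symm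
  | succ n ih =>
    rw [pow_succ, ih, siegel_mul Q _ w (h ^ n) h (o8_siegpow_isom Q h hh n),
      Finset.sum_range_succ, ← pow_succ]

end Cfsg.Agent.Helper5.O8
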