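import Mathlib
import Cfsg.Agent.Lib.Helper5.O8Defs
import Cfsg.Agent.Lib.O8.O8HYPQ
import Cfsg.Agent.Lib.O8.O8SIEGISO
import Cfsg.Agent.Lib.O8.O8SIEGMUL
import Cfsg.Agent.Lib.O8.O8SIEGPOW
import Cfsg.Agent.Lib.O8.O8SIEGONE
import Cfsg.Agent.Lib.O8.O8GEOM2
import Cfsg.Agent.Lib.Helper13.OrthType5

/-!
# S3589 piece O8-SIEGORD: a Jordan block of size `2 ^ s` on `W` gives order `2 ^ (s + 1)` on `H ⊕ W`
-/

set_option autoImplicit false

namespace Cfsg.Agent.Helper5.O8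

open Polynomial Module QuadraticMap
open Cfsg.Agent.Helper13 Cfsg.Agent.Helper13.OrthSS

universe u

theorem o8_siegord_add_self {F : Type u} [Field F] [CharP F 2] {V : Type u} [AddCommGroup V]
    [Module F V] (v : V) : v + v = 0 := by
  have h2 : (2 : F) = 0 := by
    have := CharP.cast_eq_zero F 2
    exact_mod_cast this
  rw [← two_smul F v, h2, zero_smul]

-- PIECE O8-SIEGORD
theorem quni_siegel_qord {F : Type u} [Field F] [Fintype F] [CharP F 2] {d s : ℕ} {t : Prop}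
    (h : QUni F d s t) : QOrd F (d + 2) (2 ^ (s + 1)) t := by
  obtain ⟨V, i1, i2, i3, A, Q, hA1, hA2, hQ, hAQ, hfin, hev, ht⟩ := h
  obtain ⟨w, hw⟩ : ∃ w : V, ((A - 1) ^ (2 ^ s - 1) : Module.End F V) w ≠ 0 := by
    by_contra hcon
    push Not at hcon
    exact hA2 (LinearMap.ext hcon)
  obtain ⟨hH1, hH2, hH3⟩ := hypQ_facts F
  set g := siegel Q w A with hg
  have hgpow : g ^ (2 ^ s) = siegel Q (((A - 1) ^ (2 ^ s - 1) : Module.End F V) w) 1 := by
    rw [hg, siegel_pow Q w A hAQ, hA1, ← geom_sum_char_two A s, LinearMap.sum_apply]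
  have hne : ¬ g ^ (2 ^ s) = 1 := by
    rw [hgpow]
    intro h1
    exact hw ((siegel_one Q).2 _ _ h1).1
  have hone : g ^ (2 ^ (s + 1)) = 1 := by
    rw [pow_succ, pow_mul, hgpow, pow_two, siegel_mul Q _ _ 1 1 (fun z => rfl),
      Module.End.one_apply, o8_siegord_add_self (F := F), mul_one]
    exact (siegel_one Q).1
  refine ⟨(F × F) × V, inferInstance, inferInstance, inferInstance, g,
    QuadraticMap.prod (hypQ F) Q, orderOf_eq_prime_pow hne hone, by positivity,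
    nondeg_prod _ _ hH1 hQ, siegel_isometry Q w A hAQ, ?_, ?_, ?_⟩
  · rw [Module.finrank_prod, hH3, hfin, add_comm]
  · exact hev.add even_two
  · rw [isHyp_prod_iff (hypQ F) Q hH1 hQ (by rw [hH3]; exact even_two) (by rw [hfin]; exact hev),
      ← ht]
    exact ⟨fun h => h.1 hH2, fun h => ⟨fun _ => h, fun _ => hH2⟩⟩

end Cfsg.Agent.Helper5.O8
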