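import Mathlib
import Cfsg.Prelude.Def_Classical
import Cfsg.Agent.Lib.Helper5.O8Defs
import Cfsg.Agent.Lib.Helper13.OrthType5
import Cfsg.Agent.Lib.Helper2.OrthOrders

/-!
# S3589, piece O8-UNI2M: an involution of the anisotropic plane in characteristic 2
-/

set_option autoImplicit false

namespace Cfsg.Agent.Helper5.O8

open Polynomial Module QuadraticMap
open Cfsg.Agent.Helper13 Cfsg.Agent.Helper13.OrthSS

universe u

/-- the map `(z₁, z₂) ↦ (z₁ + z₂, z₂)` -/
noncomputable def o8_uni2m_A (F : Type u) [Field F] :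
    Module.End F (((Fin 0 ⊕ Fin 0) ⊕ Fin 2) → F) where
  toFun v := fun i => v i + (if i = Sum.inr 0 then v (Sum.inr 1) else 0)
  map_add' u v := by
    funext i
    simp only [Pi.add_apply]
    split_ifs <;> ring
  map_smul' c v := by
    funext i
    simp only [Pi.smul_apply, smul_eq_mul, RingHom.id_apply]
    split_ifs <;> ring

theorem o8_uni2m_A_zero (F : Type u) [Field F] (v : ((Fin 0 ⊕ Fin 0) ⊕ Fin 2) → F) :
    o8_uni2m_A F v (Sum.inr 0) = v (Sum.inr 0) + v (Sum.inr 1) := by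
  show v (Sum.inr 0) + (if (Sum.inr 0 : (Fin 0 ⊕ Fin 0) ⊕ Fin 2) = Sum.inr 0 then
    v (Sum.inr 1) else 0) = _
  rw [if_pos rfl]

theorem o8_uni2m_A_one (F : Type u) [Field F] (v : ((Fin 0 ⊕ Fin 0) ⊕ Fin 2) → F) :
    o8_uni2m_A F v (Sum.inr 1) = v (Sum.inr 1) := by
  show v (Sum.inr 1) + (if (Sum.inr 1 : (Fin 0 ⊕ Fin 0) ⊕ Fin 2) = Sum.inr 0 then
    v (Sum.inr 1) else 0) = _
  rw [if_neg (by decide), add_zero]

-- PIECE O8-UNI2M
theorem quni_two_minus {F : Type u} [Field F] [Fintype F] [CharP F 2] : QUni F 2 1 False := by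
  classical
  obtain ⟨ζ, hζ⟩ := exists_rootless (F := F)
  have han := aniso_of_rootless ζ hζ
  have h2 : (2 : F) = 0 := CharTwo.two_eq_zero
  refine ⟨((Fin 0 ⊕ Fin 0) ⊕ Fin 2) → F, inferInstance, inferInstance, inferInstance,
    o8_uni2m_A F, matQ (minusMat 0 1 ζ), ?_, ?_, ?_, ?_, ?_, ?_, ?_⟩
  · -- `A ^ 2 = 1`
    rw [pow_one, pow_two]
    apply LinearMap.ext
    intro v
    funext i
    rw [Module.End.mul_apply, Module.End.one_apply]
    rcases i with (i | i) | i
    · exact i.elim0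
    · exact i.elim0
    · fin_cases i
      · show o8_uni2m_A F (o8_uni2m_A F v) (Sum.inr 0) = v (Sum.inr 0)
        rw [o8_uni2m_A_zero, o8_uni2m_A_zero, o8_uni2m_A_one]
        linear_combination (v (Sum.inr 1)) * h2
      · show o8_uni2m_A F (o8_uni2m_A F v) (Sum.inr 1) = v (Sum.inr 1)
        rw [o8_uni2m_A_one, o8_uni2m_A_one]
  · -- `A - 1 ≠ 0`
    rw [show 2 ^ 1 - 1 = 1 from rfl, pow_one]
    intro h
    have h1 := congrArg (fun f : Module.End F (((Fin 0 ⊕ Fin 0) ⊕ Fin 2) → F) =>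
      f (Pi.single (Sum.inr 1) 1) (Sum.inr 0)) h
    simp only [LinearMap.sub_apply, Module.End.one_apply, LinearMap.zero_apply, Pi.sub_apply,
      Pi.zero_apply] at h1
    rw [o8_uni2m_A_zero, Pi.single_eq_same, Pi.single_eq_of_ne (by decide)] at h1
    simp at h1
  · exact Cfsg.Agent.Helper2.Orth.nondeg_minus 0 1 ζ han
  · intro v
    rw [matQ_minusMat, matQ_minusMat, o8_uni2m_A_zero, o8_uni2m_A_one]
    simp only [Finset.univ_eq_empty, Finset.sum_empty, zero_add]
    linear_combination (v (Sum.inr 0) * v (Sum.inr 1) + v (Sum.inr 1) ^ 2) * h2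
  · rw [Module.finrank_fintype_fun_eq_card]
    simp
  · exact ⟨1, rfl⟩
  · exact iff_false_intro (not_isHyp_minusMat 0 1 ζ han)

end Cfsg.Agent.Helper5.O8
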