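import Mathlib
import Cfsg.Agent.Lib.Helper5.O8Defs
import Cfsg.Agent.Lib.O8.O8HYPQ

/-! S3589 farm-out (designer helper5), piece O8-UNI2P. Proved by helper18. -/

set_option autoImplicit false

namespace Cfsg.Agent.Helper5.O8

open Polynomial Module QuadraticMap
open Cfsg.Agent.Helper13 Cfsg.Agent.Helper13.OrthSS

universe u

/-- the swap of the two coordinates of `F × F` -/
noncomputable def o8_uni2p_swap (F : Type u) [Field F] : Module.End F (F × F) :=
  LinearMap.prod (LinearMap.snd F F F) (LinearMap.fst F F F)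

theorem o8_uni2p_swap_apply (F : Type u) [Field F] (v : F × F) :
    o8_uni2p_swap F v = (v.2, v.1) := rfl

-- PIECE O8-UNI2P
theorem quni_two_plus {F : Type u} [Field F] [CharP F 2] : QUni F 2 1 True := by
  obtain ⟨hnd, hhyp, hfin⟩ := hypQ_facts F
  refine ⟨F × F, inferInstance, inferInstance, inferInstance, o8_uni2p_swap F, hypQ F,
    ?_, ?_, hnd, ?_, hfin, ⟨1, rfl⟩, iff_true_intro hhyp⟩
  · rw [pow_one, pow_two]
    apply LinearMap.ext
    intro v
    rw [Module.End.mul_apply, o8_uni2p_swap_apply, o8_uni2p_swap_apply, Module.End.one_apply]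
  · rw [pow_one, show (2 : ℕ) - 1 = 1 from rfl, pow_one]
    intro h0
    have h1 := congrArg (fun f : Module.End F (F × F) => (f (1, 0)).2) h0
    simp [o8_uni2p_swap_apply] at h1
  · intro v
    rw [o8_uni2p_swap_apply, hypQ_apply, hypQ_apply, mul_comm]

end Cfsg.Agent.Helper5.O8
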