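import Mathlib
import Cfsg.Agent.Lib.Helper5.O8Defs

/-! S3589 farm-out (designer helper5), piece O8-UNIORD. Proved by helper18. -/

set_option autoImplicit false

namespace Cfsg.Agent.Helper5.O8

open Polynomial Module QuadraticMap

universe u

/-- in characteristic two, `(A - 1) ^ (2 ^ j) = A ^ (2 ^ j) - 1` for an endomorphism -/
theorem o8_uniord_sub_pow {F : Type u} [Field F] [CharP F 2] {V : Type u} [AddCommGroup V]
    [Module F V] (A : Module.End F V) (j : ℕ) : (A - 1) ^ (2 ^ j) = A ^ (2 ^ j) - 1 := by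
  have h1 : ((X : F[X]) - 1) ^ (2 ^ j) = X ^ (2 ^ j) - 1 := by
    have := sub_pow_char_pow (R := F[X]) (p := 2) (n := j) (X : F[X]) 1
    rw [this, one_pow]
  have h2 := congrArg (aeval A) h1
  simpa using h2

-- PIECE O8-UNIORD
theorem quni_qord {F : Type u} [Field F] [CharP F 2] {d s : ℕ} {t : Prop} (h : QUni F d s t) :
    QOrd F d (2 ^ s) t := by
  obtain ⟨V, i1, i2, i3, A, Q, hA1, hA2, hnd, hiso, hfin, hev, hty⟩ := h
  refine ⟨V, i1, i2, i3, A, Q, ?_, by positivity, hnd, hiso, hfin, hev, hty⟩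
  cases s with
  | zero =>
    rw [pow_zero, pow_one] at hA1
    rw [hA1, pow_zero, orderOf_one]
  | succ s =>
    have : Fact (Nat.Prime 2) := ⟨Nat.prime_two⟩
    apply orderOf_eq_prime_pow ?_ hA1
    intro hcon
    apply hA2
    have h1 : (A - 1) ^ (2 ^ s) = 0 := by
      rw [o8_uniord_sub_pow, hcon, sub_self]
    have h2 : 2 ^ (s + 1) - 1 = 2 ^ s + (2 ^ s - 1) := by
      have : 0 < 2 ^ s := by positivity
      rw [pow_succ]; omega
    rw [h2, pow_add, h1, zero_mul]

end Cfsg.Agent.Helper5.O8
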