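import Mathlib
import Cfsg.Agent.Lib.Helper5.O8Defs
import Cfsg.Agent.Lib.Helper10.EODefs
import Cfsg.Agent.Lib.Helper5.EOSTAR2

/-!
# S3589 piece O8-UPEEL: split off the `(X - 1)`-part of a star-closed polynomial.
-/

set_option autoImplicit false

namespace Cfsg.Agent.Helper5.O8

open Polynomial Module QuadraticMap
open Cfsg.Agent.Helper13 Cfsg.Agent.Helper13.OrthSS Cfsg.Agent.Helper10

universe u

theorem o8_upeel_coeff_zero_X_sub_one {F : Type u} [Field F] :
    ((X : F[X]) - 1).coeff 0 = -1 := by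
  simp

theorem o8_upeel_star_X_sub_one {F : Type u} [Field F] : EO.star ((X : F[X]) - 1) = X - 1 := by
  have h1 : ((X : F[X]) - 1) = X + C (-1) := by
    rw [C_neg, C_1, sub_eq_add_neg]
  have h2 : ((X : F[X]) - 1).reverse = 1 - X := by
    rw [h1, reverse_add_C, natDegree_X, pow_one]
    have : (X : F[X]).reverse = 1 := by
      have := reverse_mul_X (1 : F[X])
      rw [one_mul] at this
      rw [this]
      have h3 : (1 : F[X]) = C 1 := by rw [C_1]
      rw [h3, reverse_C]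
    rw [this, C_neg, C_1]
    ring
  unfold EO.star
  rw [h2, o8_upeel_coeff_zero_X_sub_one, inv_neg, inv_one, C_neg, C_1]
  ring

theorem o8_upeel_coeff_zero_pow {F : Type u} [Field F] (k : ℕ) :
    (((X : F[X]) - 1) ^ k).coeff 0 ≠ 0 := by
  rw [coeff_zero_eq_eval_zero, eval_pow]
  apply pow_ne_zero
  simp

theorem o8_upeel_star_pow {F : Type u} [Field F] (k : ℕ) :
    EO.star (((X : F[X]) - 1) ^ k) = (X - 1) ^ k := by
  induction k with
  | zero =>
    unfold EO.star
    have h3 : (1 : F[X]) = C 1 := by rw [C_1]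
    rw [pow_zero, h3, reverse_C, coeff_C_zero, inv_one, C_1, one_mul]
  | succ k ih =>
    rw [pow_succ, EO.star_mul_irreducible.1 _ _ (o8_upeel_coeff_zero_pow k)
      (by rw [o8_upeel_coeff_zero_X_sub_one]; exact neg_ne_zero.2 one_ne_zero), ih,
      o8_upeel_star_X_sub_one]

-- PIECE O8-UPEEL
theorem upeel {F : Type u} [Field F] (χ : F[X]) (hmon : χ.Monic) (h0 : χ.coeff 0 ≠ 0)
    (hstar : EO.star χ = χ) :
    ∃ (u : ℕ) (χ' : F[X]), χ = (X - 1) ^ u * χ' ∧ χ'.Monic ∧ χ'.coeff 0 ≠ 0 ∧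
      EO.star χ' = χ' ∧ χ'.eval 1 ≠ 0 := by
  obtain ⟨χ', hχ, hnd⟩ := exists_eq_pow_rootMultiplicity_mul_and_not_dvd χ hmon.ne_zero (1 : F)
  rw [C_1] at hχ hnd
  set u := rootMultiplicity (1 : F) χ with hu
  have hmonu : (((X : F[X]) - 1) ^ u).Monic := by
    have : ((X : F[X]) - 1) = X - C 1 := by rw [C_1]
    rw [this]
    exact (monic_X_sub_C (1 : F)).pow u
  have hmon' : χ'.Monic := by
    have h1 : (((X : F[X]) - 1) ^ u * χ').Monic := by
      rw [← hχ]
      exact hmon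
    exact hmonu.of_mul_monic_left h1
  have h0' : χ'.coeff 0 ≠ 0 := by
    intro h
    apply h0
    rw [hχ, mul_coeff_zero, h, mul_zero]
  have hev : χ'.eval 1 ≠ 0 := by
    intro h
    apply hnd
    have : ((X : F[X]) - 1) = X - C 1 := by rw [C_1]
    rw [this, dvd_iff_isRoot]
    exact h
  refine ⟨u, χ', hχ, hmon', h0', ?_, hev⟩
  have h2 : EO.star χ = (X - 1) ^ u * EO.star χ' := by
    conv_lhs => rw [hχ]
    rw [EO.star_mul_irreducible.1 _ _ (o8_upeel_coeff_zero_pow u) h0', o8_upeel_star_pow]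
  rw [hstar] at h2
  have h3 : ((X : F[X]) - 1) ^ u * χ' = (X - 1) ^ u * EO.star χ' := by
    rw [← hχ]
    exact h2
  exact (mul_left_cancel₀ hmonu.ne_zero h3).symm

end Cfsg.Agent.Helper5.O8
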