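import Mathlib
import Cfsg.Prelude.Def_Classical
import Cfsg.Agent.Lib.Helper5.O8Defs

/-!
# S3589 piece O8-PLANE (helper15): in a nondegenerate plane in characteristic 2, a square-zero
endomorphism `N` has `B(w, N w) ≠ 0` whenever `N w ≠ 0`.
-/

set_option autoImplicit false

namespace Cfsg.Agent.Helper5.O8

open Polynomial Module QuadraticMap
open Cfsg.Agent.Helper13 Cfsg.Agent.Helper13.OrthSS

universe u

-- PIECE O8-PLANE
theorem polar_ne_zero_of_plane {F : Type u} [Field F] [CharP F 2] {V : Type u} [AddCommGroup V]
    [Module F V] [FiniteDimensional F V] (hfin : finrank F V = 2) (Q : QuadraticForm F V)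
    (hQ : (polarBilin Q).Nondegenerate) (N : Module.End F V) (hN : N * N = 0) (w : V)
    (hw : N w ≠ 0) : polar Q w (N w) ≠ 0 := by
  intro h0
  apply hw
  have hNN : ∀ v, N (N v) = 0 := by
    intro v
    have := congrArg (fun f : Module.End F V => f v) hN
    simpa using this
  -- `w`, `N w` are linearly independent
  have hli : LinearIndependent F ![w, N w] := by
    rw [LinearIndependent.pair_iff]
    intro s t hst
    have h1 : s • N w = 0 := by
      have := congrArg N hst
      rw [map_add, map_smul, map_smul, hNN, smul_zero, add_zero, map_zero] at this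
      exact this
    have hs : s = 0 := by
      rcases smul_eq_zero.1 h1 with h | h
      · exact h
      · exact absurd h hw
    rw [hs, zero_smul, zero_add] at hst
    have ht : t = 0 := by
      rcases smul_eq_zero.1 hst with h | h
      · exact h
      · exact absurd h hw
    exact ⟨hs, ht⟩
  have hspan : Submodule.span F (Set.range ![w, N w]) = ⊤ := by
    apply hli.span_eq_top_of_card_eq_finrank'
    rw [hfin]
    rfl
  -- the functional `B(N w, ·)` vanishes on both basis vectors
  have hker : Submodule.span F (Set.range ![w, N w]) ≤ LinearMap.ker (polarBilin Q (N w)) := by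
    rw [Submodule.span_le]
    rintro _ ⟨i, rfl⟩
    rw [SetLike.mem_coe, LinearMap.mem_ker, polarBilin_apply_apply]
    fin_cases i
    · show polar Q (N w) w = 0
      rw [polar_comm]
      exact h0
    · show polar Q (N w) (N w) = 0
      rw [polar_self]
      have h2 : (2 : F) = 0 := CharTwo.two_eq_zero
      rw [two_smul, ← two_mul, h2, zero_mul]
  apply hQ.1
  intro y
  have hy : y ∈ LinearMap.ker (polarBilin Q (N w)) := by
    apply hker
    rw [hspan]
    exact Submodule.mem_top
  exact hy

end Cfsg.Agent.Helper5.O8
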