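import Mathlib
import Cfsg.Agent.Lib.Helper5.O8Defs

/-!
# S3589 pieces O8-DOMK0 .. O8-DOMK3 and O8-DOMU: the domination arithmetic

Every entry of the lists is a product of distinct "cyclotomic values"
`q-1, q+1, q²+q+1, q²+1, q²-q+1, q⁴+1` (indices `0..5`); divisibility follows from the
sublist relation of sorted index lists, which is decided.
-/

set_option autoImplicit false

namespace Cfsg.Agent.Helper5.O8

/-- the cyclotomic values -/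
def o8_dom_cyc (q : ℕ) : ℕ → ℕ
  | 0 => q - 1
  | 1 => q + 1
  | 2 => q ^ 2 + q + 1
  | 3 => q ^ 2 + 1
  | 4 => q ^ 2 - q + 1
  | 5 => q ^ 4 + 1
  | _ => 1

/-- the value of a list of indices -/
def o8_dom_ev (q : ℕ) (S : List ℕ) : ℕ := (S.map (o8_dom_cyc q)).prod

theorem o8_dom_ev_dvd (q : ℕ) {S T : List ℕ} (h : S.Sublist T) : o8_dom_ev q S ∣ o8_dom_ev q T :=
  (h.map _).prod_dvd_prod

def o8_dom_SB : ℕ → List (List ℕ × ℕ)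
  | 0 => [([], 1)]
  | 1 => [([0], 1), ([1], 1)]
  | 2 => [([0, 1], 1), ([3], 1), ([0], 2), ([1], 2)]
  | 3 => [([0, 2], 1), ([1, 4], 1), ([0, 3], 1), ([1, 3], 1), ([0, 1], 2), ([0], 3), ([1], 3)]
  | 4 => [([5], 1), ([0, 1, 3], 1), ([0, 1, 2], 1), ([0, 1, 4], 1), ([0, 3], 2), ([1, 3], 2),
          ([0, 1], 4)]
  | _ => []

def o8_dom_LB : List (List ℕ × ℕ) :=
  [([5], 0), ([0, 1, 3], 0), ([0, 1, 2], 0), ([0, 1, 4], 0), ([0, 2], 1), ([1, 4], 1),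
   ([0, 3], 1), ([1, 3], 1), ([0, 1], 2), ([3], 2), ([0], 3), ([1], 3)]

def o8_dom_bP : ℕ → List ℕ
  | 1 => [1]
  | 2 => [3]
  | 3 => [1, 4]
  | 4 => [5]
  | _ => []

def o8_dom_bM : ℕ → List ℕ
  | 1 => [0]
  | 2 => [0, 1]
  | 3 => [0, 2]
  | 4 => [0, 1, 3]
  | _ => []

section ident
variable (q : ℕ)

theorem o8_dom_id2 (hq : 1 ≤ q) : q ^ 2 - 1 = (q - 1) * (q + 1) := by
  obtain ⟨r, rfl⟩ := Nat.exists_eq_add_of_le hq
  have h : (1 + r) ^ 2 = r * (r + 2) + 1 := by ring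
  have h' : 1 + r - 1 = r := by omega
  rw [h, h', Nat.add_sub_cancel]
  ring

theorem o8_dom_id3 (hq : 1 ≤ q) : q ^ 3 - 1 = (q - 1) * (q ^ 2 + q + 1) := by
  obtain ⟨r, rfl⟩ := Nat.exists_eq_add_of_le hq
  have h : (1 + r) ^ 3 = r * ((1 + r) ^ 2 + (1 + r) + 1) + 1 := by ring
  have h' : 1 + r - 1 = r := by omega
  rw [h, h', Nat.add_sub_cancel]

theorem o8_dom_id6 (hq : 1 ≤ q) : q ^ 2 - q + 1 = (q - 1) * q + 1 := by
  obtain ⟨r, rfl⟩ := Nat.exists_eq_add_of_le hq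
  have h : (1 + r) ^ 2 = r * (1 + r) + (1 + r) := by ring
  have h' : 1 + r - 1 = r := by omega
  rw [h, h', Nat.add_sub_cancel]

theorem o8_dom_id3p (hq : 1 ≤ q) : q ^ 3 + 1 = (q + 1) * (q ^ 2 - q + 1) := by
  rw [o8_dom_id6 q hq]
  obtain ⟨r, rfl⟩ := Nat.exists_eq_add_of_le hq
  have h' : 1 + r - 1 = r := by omega
  rw [h']
  ring

theorem o8_dom_id4 (hq : 1 ≤ q) : q ^ 4 - 1 = (q - 1) * (q + 1) * (q ^ 2 + 1) := by
  obtain ⟨r, rfl⟩ := Nat.exists_eq_add_of_le hq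
  have h : (1 + r) ^ 4 = r * (1 + r + 1) * ((1 + r) ^ 2 + 1) + 1 := by ring
  have h' : 1 + r - 1 = r := by omega
  rw [h, h', Nat.add_sub_cancel]

end ident

theorem o8_dom_Slist_eq (q : ℕ) (hq : 1 ≤ q) (k : ℕ) :
    Slist q k = (o8_dom_SB k).map (fun p => (o8_dom_ev q p.1, p.2)) := by
  have e2 := o8_dom_id2 q hq
  have e3 := o8_dom_id3 q hq
  have e3p := o8_dom_id3p q hq
  have e4 := o8_dom_id4 q hq
  rcases k with _ | _ | _ | _ | _ | k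
  · simp [Slist, o8_dom_SB, o8_dom_ev]
  · simp [Slist, o8_dom_SB, o8_dom_ev, o8_dom_cyc]
  · simp [Slist, o8_dom_SB, o8_dom_ev, o8_dom_cyc, e2]
  · simp only [Slist, o8_dom_SB, o8_dom_ev, o8_dom_cyc, e2, e3, e3p, List.map_cons, List.map_nil,
      List.prod_cons, List.prod_nil, mul_one]
    simp only [mul_comm]
  · simp only [Slist, o8_dom_SB, o8_dom_ev, o8_dom_cyc, e2, e3, e3p, e4, List.map_cons,
      List.map_nil, List.prod_cons, List.prod_nil, mul_one]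
    simp only [mul_comm, mul_left_comm, mul_assoc]
  · simp [Slist, o8_dom_SB]

theorem o8_dom_Llist_eq (q : ℕ) (hq : 1 ≤ q) :
    Llist q = o8_dom_LB.map (fun p => (o8_dom_ev q p.1, p.2)) := by
  have e2 := o8_dom_id2 q hq
  have e3 := o8_dom_id3 q hq
  have e3p := o8_dom_id3p q hq
  have e4 := o8_dom_id4 q hq
  simp only [Llist, o8_dom_LB, o8_dom_ev, o8_dom_cyc, e2, e3, e3p, e4, List.map_cons,
    List.map_nil, List.prod_cons, List.prod_nil, mul_one]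
  simp only [mul_comm, mul_left_comm, mul_assoc]

theorem o8_dom_bP_eq (q : ℕ) (hq : 1 ≤ q) (d : ℕ) (hd : 1 ≤ d) (hd4 : d ≤ 4) :
    q ^ d + 1 = o8_dom_ev q (o8_dom_bP d) := by
  have e3p := o8_dom_id3p q hq
  interval_cases d
  · simp [o8_dom_bP, o8_dom_ev, o8_dom_cyc]
  · simp [o8_dom_bP, o8_dom_ev, o8_dom_cyc]
  · simp [o8_dom_bP, o8_dom_ev, o8_dom_cyc, e3p]
  · simp [o8_dom_bP, o8_dom_ev, o8_dom_cyc]

theorem o8_dom_bM_eq (q : ℕ) (hq : 1 ≤ q) (d : ℕ) (hd : 1 ≤ d) (hd4 : d ≤ 4) :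
    q ^ d - 1 = o8_dom_ev q (o8_dom_bM d) := by
  have e2 := o8_dom_id2 q hq
  have e3 := o8_dom_id3 q hq
  have e4 := o8_dom_id4 q hq
  interval_cases d
  · simp [o8_dom_bM, o8_dom_ev, o8_dom_cyc]
  · simp [o8_dom_bM, o8_dom_ev, o8_dom_cyc, e2]
  · simp [o8_dom_bM, o8_dom_ev, o8_dom_cyc, e3]
  · simp [o8_dom_bM, o8_dom_ev, o8_dom_cyc, e4, mul_assoc]

/-- the decided combinatorial core -/
theorem o8_dom_decide :
    ∀ k ∈ [0, 1, 2, 3], ∀ b ∈ o8_dom_SB k, ∀ d ∈ [1, 2, 3, 4], ∀ m ∈ [1, 2, 3, 4],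
      k + d * m ≤ 4 →
      (∃ b' ∈ o8_dom_SB (k + d * m), b.1.Sublist b'.1 ∧ (o8_dom_bP d).Sublist b'.1 ∧
        max b.2 m ≤ b'.2) ∧
      (∃ b' ∈ o8_dom_SB (k + d * m), b.1.Sublist b'.1 ∧ (o8_dom_bM d).Sublist b'.1 ∧
        max b.2 m ≤ b'.2) := by
  decide

theorem o8_dom_decide_final :
    ∀ k ∈ [0, 1, 2, 3, 4], ∀ b ∈ o8_dom_SB k,
      ∃ b' ∈ o8_dom_LB, b.1.Sublist b'.1 ∧ max b.2 (8 - 2 * k) ≤ 2 ^ b'.2 := by
  decide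

theorem o8_dom_step (q : ℕ) (hq : 2 ≤ q) (k : ℕ) (hk : k ≤ 3) (p : ℕ × ℕ) (hp : p ∈ Slist q k)
    (d m : ℕ) (hd : 1 ≤ d) (hm : 1 ≤ m) (h : k + d * m ≤ 4) :
    Dom (Slist q (k + d * m)) (Nat.lcm p.1 (q ^ d + 1)) (max p.2 m) ∧
      Dom (Slist q (k + d * m)) (Nat.lcm p.1 (q ^ d - 1)) (max p.2 m) := by
  have hq1 : 1 ≤ q := by omega
  have hdm : d ≤ d * m := Nat.le_mul_of_pos_right d hm
  have hmd : m ≤ d * m := Nat.le_mul_of_pos_left m hd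
  have hd4 : d ≤ 4 := by omega
  have hm4 : m ≤ 4 := by omega
  rw [o8_dom_Slist_eq q hq1 k, List.mem_map] at hp
  obtain ⟨b, hb, rfl⟩ := hp
  have hkmem : k ∈ [0, 1, 2, 3] := by interval_cases k <;> simp
  have hdmem : d ∈ [1, 2, 3, 4] := by interval_cases d <;> simp
  have hmmem : m ∈ [1, 2, 3, 4] := by interval_cases m <;> simp
  obtain ⟨⟨b1, hb1, h11, h12, h13⟩, ⟨b2, hb2, h21, h22, h23⟩⟩ :=
    o8_dom_decide k hkmem b hb d hdmem m hmmem h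
  constructor
  · refine ⟨(o8_dom_ev q b1.1, b1.2), ?_, ?_, h13⟩
    · rw [o8_dom_Slist_eq q hq1 (k + d * m), List.mem_map]
      exact ⟨b1, hb1, rfl⟩
    · apply Nat.lcm_dvd (o8_dom_ev_dvd q h11)
      rw [o8_dom_bP_eq q hq1 d hd hd4]
      exact o8_dom_ev_dvd q h12
  · refine ⟨(o8_dom_ev q b2.1, b2.2), ?_, ?_, h23⟩
    · rw [o8_dom_Slist_eq q hq1 (k + d * m), List.mem_map]
      exact ⟨b2, hb2, rfl⟩
    · apply Nat.lcm_dvd (o8_dom_ev_dvd q h21)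
      rw [o8_dom_bM_eq q hq1 d hd hd4]
      exact o8_dom_ev_dvd q h22

-- PIECE O8-DOMK0
theorem dom_step_zero (q : ℕ) (hq : 2 ≤ q) (p : ℕ × ℕ) (hp : p ∈ Slist q 0) (d m : ℕ)
    (hd : 1 ≤ d) (hm : 1 ≤ m) (h : 0 + d * m ≤ 4) :
    Dom (Slist q (0 + d * m)) (Nat.lcm p.1 (q ^ d + 1)) (max p.2 m) ∧
      Dom (Slist q (0 + d * m)) (Nat.lcm p.1 (q ^ d - 1)) (max p.2 m) :=
  o8_dom_step q hq 0 (by norm_num) p hp d m hd hm h

-- PIECE O8-DOMK1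
theorem dom_step_one (q : ℕ) (hq : 2 ≤ q) (p : ℕ × ℕ) (hp : p ∈ Slist q 1) (d m : ℕ)
    (hd : 1 ≤ d) (hm : 1 ≤ m) (h : 1 + d * m ≤ 4) :
    Dom (Slist q (1 + d * m)) (Nat.lcm p.1 (q ^ d + 1)) (max p.2 m) ∧
      Dom (Slist q (1 + d * m)) (Nat.lcm p.1 (q ^ d - 1)) (max p.2 m) :=
  o8_dom_step q hq 1 (by norm_num) p hp d m hd hm h

-- PIECE O8-DOMK2
theorem dom_step_two (q : ℕ) (hq : 2 ≤ q) (p : ℕ × ℕ) (hp : p ∈ Slist q 2) (d m : ℕ)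
    (hd : 1 ≤ d) (hm : 1 ≤ m) (h : 2 + d * m ≤ 4) :
    Dom (Slist q (2 + d * m)) (Nat.lcm p.1 (q ^ d + 1)) (max p.2 m) ∧
      Dom (Slist q (2 + d * m)) (Nat.lcm p.1 (q ^ d - 1)) (max p.2 m) :=
  o8_dom_step q hq 2 (by norm_num) p hp d m hd hm h

-- PIECE O8-DOMK3
theorem dom_step_three (q : ℕ) (hq : 2 ≤ q) (p : ℕ × ℕ) (hp : p ∈ Slist q 3) (d m : ℕ)
    (hd : 1 ≤ d) (hm : 1 ≤ m) (h : 3 + d * m ≤ 4) :
    Dom (Slist q (3 + d * m)) (Nat.lcm p.1 (q ^ d + 1)) (max p.2 m) ∧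
      Dom (Slist q (3 + d * m)) (Nat.lcm p.1 (q ^ d - 1)) (max p.2 m) :=
  o8_dom_step q hq 3 (by norm_num) p hp d m hd hm h

-- PIECE O8-DOMU
theorem dom_final (q : ℕ) (hq : 2 ≤ q) (k : ℕ) (hk : k ≤ 4) (p : ℕ × ℕ) (hp : p ∈ Slist q k) :
    ∃ p' ∈ Llist q, p.1 ∣ p'.1 ∧ max p.2 (8 - 2 * k) ≤ 2 ^ p'.2 := by
  have hq1 : 1 ≤ q := by omega
  rw [o8_dom_Slist_eq q hq1 k, List.mem_map] at hp
  obtain ⟨b, hb, rfl⟩ := hp
  have hkmem : k ∈ [0, 1, 2, 3, 4] := by interval_cases k <;> simp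
  obtain ⟨b', hb', h1, h2⟩ := o8_dom_decide_final k hkmem b hb
  refine ⟨(o8_dom_ev q b'.1, b'.2), ?_, o8_dom_ev_dvd q h1, h2⟩
  rw [o8_dom_Llist_eq q hq1, List.mem_map]
  exact ⟨b', hb', rfl⟩

end Cfsg.Agent.Helper5.O8
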